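import Cfsg.Agent.EEightSub.Rep
import Mathlib.LinearAlgebra.Matrix.Charpoly.Eigs

/-!
# Eigenvalue bounds for representations of `SL₂(3^k)` in characteristic three

A function on eigenvalues with non-negative sums on all twisted tensor products has non-negative
sums on every representation trivial on `-1`.
-/

set_option autoImplicit false
set_option linter.unusedSectionVars false
set_option linter.style.haveILetI false

namespace CfsgLib.EEightSub

open Matrix Polynomial

variable {F : Type*} [Field F] [Fintype F] {K : Type*} [Field K] (ι : F →+* K)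

theorem binom2_ne_zero [CharP K 3] (n j : ℕ) : (binom2 n j : K) ≠ 0 := by
  unfold binom2
  split_ifs
  · intro h
    have : ((2 : ℕ) : K) = 0 := by simpa using h
    rw [CharP.cast_eq_zero_iff K 3] at this
    omega
  · exact one_ne_zero

/-- Powers below the cardinality are independent functions on the field. -/
theorem coeff_of_vanish {α : Type*} [Fintype α] (c : α → K) (e : α → ℕ)
    (hlt : ∀ x, e x < Fintype.card F) (h : ∀ s : F, ∑ x, c x * ι s ^ e x = 0) (n : ℕ) :
    ∑ x with e x = n, c x = 0 := by
  classical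
  set P : K[X] := ∑ x, Polynomial.C (c x) * Polynomial.X ^ e x with hP
  have hdeg : P.natDegree < Fintype.card F := by
    refine lt_of_le_of_lt (Polynomial.natDegree_sum_le_of_forall_le (n := Fintype.card F - 1)
      _ _ fun x _ => (Polynomial.natDegree_C_mul_X_pow_le _ _).trans (by have := hlt x; omega)) ?_
    have := Fintype.card_pos (α := F)
    omega
  have h0 : P = 0 := by
    refine Polynomial.eq_zero_of_natDegree_lt_card_of_eval_eq_zero P ι.injective (fun s => ?_) hdeg
    simpa [hP, Polynomial.eval_finsetSum] using h s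
  have := congrArg (fun P : K[X] => P.coeff n) h0
  simpa [hP, Polynomial.finsetSum_coeff, Polynomial.coeff_X_pow, Finset.sum_filter, eq_comm]
    using this

variable [CharP K 3] {k : ℕ} (a : Fin k → Fin 3)

/-- The twisted tensor product as a representation of `SL₂(F)`. -/
noncomputable def model : Matrix.SpecialLinearGroup (Fin 2) F →* Module.End K (Mon a → K) where
  toFun g := Matrix.toLinAlgEquiv' (tens a (g.1.map ι))
  map_one' := by
    rw [Matrix.SpecialLinearGroup.coe_one, Matrix.map_one _ (map_zero ι) (map_one ι), map_one,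
      map_one]
  map_mul' g g' := by rw [Matrix.SpecialLinearGroup.coe_mul, Matrix.map_mul, map_mul, map_mul]

theorem model_apply (g : Matrix.SpecialLinearGroup (Fin 2) F) (x : Mon a → K) (b : Mon a) :
    model ι a g x b = ∑ b', tens a (g.1.map ι) b b' * x b' := by
  show Matrix.toLinAlgEquiv' (tens a (g.1.map ι)) x b = _
  rw [Matrix.toLinAlgEquiv'_apply]
  rfl

/-- The highest monomial. -/
def top0 : Mon a → K := Pi.single (fun _ => 0) 1

theorem model_top (g : Matrix.SpecialLinearGroup (Fin 2) F) (b : Mon a) :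
    model ι a g (top0 a) b = tens a (g.1.map ι) b fun _ => 0 := by
  rw [model_apply, top0, Finset.sum_eq_single (fun _ => 0)]
  · simp
  · intro b' _ hb'; simp [Pi.single_eq_of_ne hb']
  · simp

theorem map_uEl (s : F) : (uEl s).1.map ι = !![1, ι s; 0, 1] := by
  ext i j; fin_cases i <;> fin_cases j <;> simp [uEl]

theorem map_lEl (s : F) : (lEl s).1.map ι = !![1, 0; ι s, 1] := by
  ext i j; fin_cases i <;> fin_cases j <;> simp [lEl]

theorem map_hEl (x : Fˣ) : (hEl x).1.map ι = !![ι x, 0; 0, ι ((x⁻¹ : Fˣ) : F)] := by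
  ext i j; fin_cases i <;> fin_cases j <;> simp [hEl]

variable {ι a} (hk : Fintype.card F = 3 ^ k)
include hk

theorem model_fixed {x : Mon a → K} (hx : ∀ s, model ι a (uEl s) x = x) :
    x = x (fun _ => 0) • top0 a := by
  classical
  funext b'
  by_cases hb : b' = fun _ => 0
  · subst hb; simp [top0]
  · rw [Pi.smul_apply, top0, Pi.single_eq_of_ne hb, smul_zero]
    obtain ⟨i, hi⟩ := Function.ne_iff.1 hb
    let b : Mon a := Function.update b' i ⟨(b' i).1 - 1, by have := (b' i).2; omega⟩
    let d : Mon a → ℕ := fun c => ∑ j, ((c j).1 - (b j).1) * 3 ^ (j : ℕ)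
    let co : Mon a → K := fun c =>
      (if ∀ j, b j ≤ c j then (∏ j, binom2 (c j).1 (b j).1) * x c else 0) -
        if c = b then x b else 0
    have hlt : ∀ c, d c < Fintype.card F := fun c => hk ▸ sum_lt_pow _ fun j => by
      have := (c j).2; have := (a j).2; omega
    have hdb : d b = 0 := by simp [d]
    have hvan : ∀ s : F, ∑ c, co c * ι s ^ d c = 0 := fun s => by
      have e := congrFun (hx s) b
      rw [model_apply, map_uEl] at e
      simp only [co, sub_mul, Finset.sum_sub_distrib, ite_mul, zero_mul, Finset.sum_ite_eq',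
        Finset.mem_univ, if_true, hdb, pow_zero, mul_one]
      rw [sub_eq_zero]
      refine Eq.trans (Finset.sum_congr rfl fun c _ => ?_) e
      rw [tens_upper, ite_mul, zero_mul]
      exact ite_congr rfl (fun _ => by simp only [d]; ring) fun _ => rfl
    have h1 := coeff_of_vanish ι co d hlt hvan (3 ^ (i : ℕ))
    have hdig : ∀ c, (∀ j, b j ≤ c j) → d c = 3 ^ (i : ℕ) → c = b' := by
      intro c hc e
      have e2 := digits_unique (fun j => (c j).1 - (b j).1) (fun j => if j = i then 1 else 0)
        (fun j => by have := (c j).2; have := (a j).2; omega) (fun j => by split_ifs <;> omega)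
        (by simpa [ite_mul] using e)
      funext j
      have e3 := congrFun e2 j
      have := hc j
      by_cases hj : j = i
      · subst hj
        have hpos : 0 < (b' j).1 := Nat.pos_of_ne_zero fun h0 => hi (Fin.ext h0)
        simp only [b, Function.update_self, if_true, Fin.le_def] at e3 this
        exact Fin.ext (by omega)
      · simp only [b, Function.update_of_ne hj, if_neg hj, Fin.le_def] at e3 this
        exact Fin.ext (by omega)
    have hble : ∀ j, b j ≤ b' j := fun j => by
      by_cases hj : j = i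
      · subst hj; simp [b, Fin.le_def]
      · simp [b, Function.update_of_ne hj]
    have hdb' : d b' = 3 ^ (i : ℕ) := by
      simp only [d]
      rw [Finset.sum_eq_single i]
      · have hpos : 0 < (b' i).1 := Nat.pos_of_ne_zero fun h0 => hi (Fin.ext h0)
        simp only [b, Function.update_self]
        rw [show (b' i).1 - ((b' i).1 - 1) = 1 by omega, one_mul]
      · intro j _ hj; simp [b, Function.update_of_ne hj]
      · simp
    have hne : b' ≠ b := fun e => by
      have : d b' = 0 := e ▸ hdb
      rw [hdb'] at this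
      exact absurd this (pow_ne_zero _ (by norm_num))
    rw [Finset.sum_eq_single b'] at h1
    · simp only [co, if_pos hble, if_neg hne, sub_zero] at h1
      exact (mul_eq_zero.1 h1).resolve_left
        (Finset.prod_ne_zero_iff.2 fun j _ => binom2_ne_zero _ _)
    · intro c hc hne'
      rw [Finset.mem_filter] at hc
      simp only [co]
      rw [if_neg fun hle => hne' (hdig c hle hc.2), if_neg, sub_zero]
      intro e
      rw [e, hdb] at hc
      exact absurd hc.2.symm (pow_ne_zero _ (by norm_num))
    · intro h; simp [hdb'] at h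

omit hk in
theorem model_u (s : F) : model ι a (uEl s) (top0 a) = top0 a := by
  classical
  funext b
  rw [model_top, map_uEl, tens_upper]
  by_cases hb : b = fun _ => 0
  · subst hb; simp [top0, binom2]
  · rw [if_neg, top0, Pi.single_eq_of_ne hb]
    intro hle
    exact hb (funext fun i => le_antisymm (hle i) (Fin.zero_le _))

omit hk in
theorem model_h (x : Fˣ) : model ι a (hEl x) (top0 a) = ι (x : F) ^ high a • top0 a := by
  classical
  funext b
  rw [model_top, map_hEl, tens_diag, Matrix.diagonal_apply, Pi.smul_apply, top0]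
  by_cases hb : b = fun _ => 0
  · subst hb
    simp [high, Finset.prod_pow_eq_pow_sum]
  · rw [if_neg hb, Pi.single_eq_of_ne hb, smul_zero]

omit hk in
theorem even_high : Even (high a) ↔ Even (∑ i, (a i).1) := by
  have h : ∀ n : ℕ, 3 ^ n % 2 = 1 := fun n => Nat.odd_iff.1 (Odd.pow ⟨1, rfl⟩)
  simp only [Nat.even_iff, high]
  rw [Finset.sum_nat_mod, Finset.sum_nat_mod (f := fun i => (a i).1)]
  simp [Nat.mul_mod, h]

omit hk in
theorem model_neg (ha : Even (∑ i, (a i).1)) : model ι a negOne = 1 := by
  show Matrix.toLinAlgEquiv' (tens a ((hEl (-1)).1.map ι)) = 1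
  rw [map_hEl, tens_diag, ← map_one Matrix.toLinAlgEquiv', ← Matrix.diagonal_one]
  congr 1
  refine congrArg _ (funext fun b => ?_)
  simp only [inv_neg, inv_one, Units.val_neg, Units.val_one, map_neg, map_one, ← pow_add,
    Finset.prod_pow_eq_pow_sum, ← add_mul]
  have e : (∑ i, ((a i).1 - (b i).1 + (b i).1) * 3 ^ (i : ℕ)) = high a :=
    Finset.sum_congr rfl fun i _ => by rw [Nat.sub_add_cancel (Nat.le_of_lt_succ (b i).2)]
  rw [e, (even_high.2 ha).neg_one_pow]

/-- The scalar of the model. -/
theorem model_highVec [CharP F 3] (ha : Even (∑ i, (a i).1)) :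
    HighVec ι (model ι a) (top0 a) (high a) (if high a = Fintype.card F - 1 then -1 else 0) := by
  classical
  refine ⟨model_u, model_h, ?_, model_neg ha⟩
  have hfix : ∀ s, model ι a (uEl s)
      (∑ t : F, model ι a (uEl t) (model ι a wEl (top0 a))) =
        ∑ t : F, model ι a (uEl t) (model ι a wEl (top0 a)) := fun s => by
    simp only [map_sum]
    simp only [← Module.End.mul_apply, ← mul_assoc, ← map_mul, ← uEl_add]
    exact Fintype.sum_equiv (Equiv.addLeft s) _ _ fun t => rfl
  rw [model_fixed hk hfix]
  congr 1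
  rw [Finset.sum_apply]
  have hval : ∀ t : F, model ι a (uEl t) (model ι a wEl (top0 a)) (fun _ => 0) = ι t ^ high a := by
    intro t
    rw [← Module.End.mul_apply, ← map_mul, model_top, tens_apply, high,
      ← Finset.prod_pow_eq_pow_sum]
    refine Finset.prod_congr rfl fun i _ => ?_
    have e : (((uEl t * wEl : Matrix.SpecialLinearGroup (Fin 2) F).1.map ι).map
        (iterateFrobenius K 3 (i : ℕ))) 0 0 = ι t ^ 3 ^ (i : ℕ) := by
      rw [Matrix.SpecialLinearGroup.coe_mul]
      simp [uEl, wEl, Matrix.mul_apply, Fin.sum_univ_two, iterateFrobenius_def]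
    rw [mul_comm (a i).1, pow_mul, ← e]
    generalize (((uEl t * wEl : Matrix.SpecialLinearGroup (Fin 2) F).1.map ι).map
        (iterateFrobenius K 3 (i : ℕ))) = g
    generalize a i = n
    fin_cases n <;> simp [symE, pow_two]
  simp only [hval]
  have hle : high a < Fintype.card F := hk ▸ sum_lt_pow _ fun i => by have := (a i).2; omega
  by_cases h0 : high a = 0
  · have hq : Fintype.card F ≠ 1 := (Fintype.one_lt_card).ne'
    have hK : (Fintype.card F : K) = 0 := by
      rw [hk, Nat.cast_pow, show ((3 : ℕ) : K) = 0 from CharP.cast_eq_zero K 3, zero_pow]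
      rintro rfl
      simp [hk] at hq
    simp only [h0, pow_zero, Finset.sum_const, Finset.card_univ, nsmul_one, hK]
    rw [if_neg]
    have := Fintype.one_lt_card (α := F); omega
  · have e := FiniteField.sum_pow_units F (high a)
    have e2 : ∑ t : F, ι t ^ high a = ι (∑ t : Fˣ, (t ^ high a : F)) := by
      rw [map_sum, ← Finset.add_sum_erase _ _ (Finset.mem_univ (0 : F)), map_zero, zero_pow h0,
        zero_add]
      refine Finset.sum_bij' (fun t ht => Units.mk0 t (Finset.ne_of_mem_erase ht))
        (fun t _ => (t : F)) (fun _ _ => Finset.mem_univ _) (fun t _ => by simp) (fun t _ => rfl)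
        (fun t _ => Units.ext rfl) (fun t _ => by simp)
    rw [e2, e]
    by_cases hd : high a = Fintype.card F - 1
    · simp [hd]
    · rw [if_neg hd, if_neg, map_zero]
      intro hdvd
      have := Nat.le_of_dvd (Nat.pos_of_ne_zero h0) hdvd
      omega

omit hk in
theorem top0_ne_zero : (top0 a : Mon a → K) ≠ 0 := fun e => by
  simpa [top0] using congrFun e (fun _ => 0)

theorem model_cyc : cyc (model ι a) (top0 a) = ⊤ := by
  classical
  by_contra hne
  obtain ⟨φ, hφ, hle⟩ := Submodule.exists_le_ker_of_lt_top _ (lt_top_iff_ne_top.2 hne)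
  refine hφ (LinearMap.ext fun x => ?_)
  have hsingle : ∀ b, φ (Pi.single b 1) = 0 := by
    let co : Mon a → K := fun b => φ (Pi.single b 1) * ∏ i, binom2 (a i).1 (b i).1
    have hvan : ∀ s : F, ∑ b, co b * ι s ^ expo b = 0 := fun s => by
      have e : φ (model ι a (lEl s) (top0 a)) = 0 := hle (Submodule.subset_span ⟨s, rfl⟩)
      rw [pi_eq_sum_univ' (model ι a (lEl s) (top0 a)), map_sum] at e
      rw [← e]
      refine Finset.sum_congr rfl fun b _ => ?_
      rw [map_smul, smul_eq_mul, model_top, map_lEl, tens_lower_col]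
      simp only [co]
      ring
    intro b
    have h1 := coeff_of_vanish ι co expo (fun b => hk ▸ expo_lt b) hvan (expo b)
    rw [Finset.sum_eq_single b (fun c hc hne => absurd
      (expo_injective a (Finset.mem_filter.1 hc).2) hne) (by simp)] at h1
    exact (mul_eq_zero.1 h1).resolve_right (Finset.prod_ne_zero_iff.2 fun i _ => binom2_ne_zero _ _)
  rw [pi_eq_sum_univ' x, map_sum, LinearMap.zero_apply]
  exact Finset.sum_eq_zero fun b _ => by rw [map_smul, hsingle, smul_zero]

theorem model_irred [CharP F 3] : Irred (model (K := K) ι a) := by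
  haveI : Fact (Nat.Prime 3) := ⟨Nat.prime_three⟩
  refine ⟨inferInstance, fun W hW => ?_⟩
  by_cases hbot : W = ⊥
  · exact Or.inl hbot
  refine Or.inr (top_le_iff.1 ?_)
  obtain ⟨x, hxW, hx0, hfix⟩ := exists_fixed_vec (p := 3) (fun t : F => model ι a (uEl t))
    (by rw [uEl_zero, map_one]) (fun s t => by rw [uEl_add, map_mul])
    (fun c => by rw [nsmul_eq_mul, CharP.cast_eq_zero, zero_mul]) hbot (fun t => hW _)
  have e := model_fixed hk hfix
  have hc : x (fun _ => 0) ≠ 0 := fun h0 => hx0 (by rw [e, h0, zero_smul])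
  have htop : top0 a ∈ W := by
    have := W.smul_mem (x fun _ => 0)⁻¹ hxW
    rw [e, Pi.smul_apply, top0, Pi.single_eq_same, smul_eq_mul, mul_one, ← smul_assoc,
      smul_eq_mul, inv_mul_cancel₀ hc, one_smul] at this
    exact this
  rw [← model_cyc hk (ι := ι) (a := a), cyc, Submodule.span_le]
  rintro _ ⟨t, rfl⟩
  exact hW _ _ htop

omit hk in
/-- Digits in base three. -/
theorem exists_digits : ∀ (k r : ℕ), r < 3 ^ k →
    ∃ a : Fin k → Fin 3, ∑ i, (a i).1 * 3 ^ (i : ℕ) = r
  | 0, r, h => ⟨Fin.elim0, by simp at h; simp [h]⟩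
  | k + 1, r, h => by
    obtain ⟨a, ha⟩ := exists_digits k (r / 3) (by rw [pow_succ] at h; omega)
    refine ⟨Fin.cons ⟨r % 3, by omega⟩ a, ?_⟩
    rw [Fin.sum_univ_succ]
    simp only [Fin.cons_zero, Fin.cons_succ, Fin.val_zero, pow_zero, mul_one, Fin.val_succ,
      pow_succ, ← mul_assoc, ← Finset.sum_mul, ha]
    omega

variable {V : Type*} [AddCommGroup V] [Module K V] [FiniteDimensional K V] [IsAlgClosed K]
  [CharP F 3] {ρ : Matrix.SpecialLinearGroup (Fin 2) F →* Module.End K V}

/-- **Classification**: an irreducible representation trivial on `-1` is a twisted tensor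
product. -/
theorem exists_model (hirr : Irred ρ) (hneg : ρ negOne = 1) :
    ∃ a : Fin k → Fin 3, Even (∑ i, (a i).1) ∧ ∃ e : V ≃ₗ[K] (Mon a → K),
      ∀ g x, e (ρ g x) = model ι a g (e x) := by
  obtain ⟨v, r, c, hv, hv', hr, heven, hc⟩ := exists_highVec (ι := ι) hirr hneg
  have hq1 := Fintype.one_lt_card (α := F)
  rcases hc with rfl | ⟨rfl, rfl⟩
  · obtain ⟨a, ha⟩ := exists_digits k r (hk ▸ by omega)
    have hev : Even (∑ i, (a i).1) := even_high.1 (show Even (high a) by rw [high, ha]; exact heven)
    have hm := model_highVec (ι := ι) (K := K) hk hev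
    rw [show high a = r from ha, if_neg (by omega)] at hm
    exact ⟨a, hev, exists_equiv hirr (model_irred hk) hv' hv hm top0_ne_zero⟩
  · let a : Fin k → Fin 3 := fun _ => 2
    have hev : Even (∑ i, (a i).1) := by simp [a]
    have hh : high a = Fintype.card F - 1 := by
      have := geom_sum_mul_of_one_le (show 1 ≤ 3 by norm_num) k
      rw [high, hk, ← this, Finset.sum_range]
      simp only [a]
      rw [← Finset.mul_sum, mul_comm]
      rfl
    have hm := model_highVec (ι := ι) (K := K) hk hev
    rw [if_pos hh] at hm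
    have hm' : HighVec ι (model ι a) (top0 a) 0 (-1 : K) := ⟨hm.u_fix, fun x => by
      rw [hm.h_eig, hh, pow_zero, ← map_pow, FiniteField.pow_card_sub_one_eq_one _ x.ne_zero,
        map_one], hm.nw, hm.neg⟩
    exact ⟨a, hev, exists_equiv hirr (model_irred hk) hv' hv hm' top0_ne_zero⟩

omit hk in
/-- The weight of a monomial. -/
def wtVal (ω : K) (a : Fin k → Fin 3) (b : Mon a) : K :=
  ω ^ (∑ i, ((a i).1 - (b i).1) * 3 ^ (i : ℕ)) * (ω⁻¹) ^ (∑ i, (b i).1 * 3 ^ (i : ℕ))

omit hk in
theorem roots_model {s : F} {ω : K} (hω : ω ≠ 0) (hω2 : ω * ω ≠ 1) (hs : ι s = ω + ω⁻¹) :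
    (model ι a (comp s)).charpoly.roots = Finset.univ.val.map (wtVal ω a) := by
  classical
  set P : Matrix (Fin 2) (Fin 2) K := !![1, 1; -ω, -ω⁻¹]
  have hP : IsUnit P := by
    rw [Matrix.isUnit_iff_isUnit_det, Matrix.det_fin_two, isUnit_iff_ne_zero]
    simp [P]
    field_simp
    intro h
    apply hω2
    linear_combination h
  have hconj : (comp s).1.map ι * P = P * !![ω, 0; 0, ω⁻¹] := by
    ext i j
    fin_cases i <;> fin_cases j <;> simp [P, comp, Matrix.mul_apply, Fin.sum_univ_two, hs] <;>
      field_simp <;> ring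
  obtain ⟨u, hu⟩ := hP
  have h1 : tens a ((comp s).1.map ι) * tens a (u : Matrix _ _ K) =
      tens a (u : Matrix _ _ K) * tens a !![ω, 0; 0, ω⁻¹] := by
    rw [← map_mul, ← map_mul, hu, hconj]
  set T := Units.map (tens a) u with hT
  have e : tens a ((comp s).1.map ι) = T.val * tens a !![ω, 0; 0, ω⁻¹] * T⁻¹.val := by
    rw [show T.val = tens a (u : Matrix _ _ K) from Units.coe_map (tens a) u, ← h1, mul_assoc,
      ← Units.coe_map (tens a) u, ← hT, Units.mul_inv, mul_one]
  show (Matrix.toLin' (tens a ((comp s).1.map ι))).charpoly.roots = _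
  rw [Matrix.charpoly_toLin', e, Matrix.coe_units_inv, Matrix.charpoly_units_conj, tens_diag, Matrix.charpoly_diagonal]
  have e2 : ∀ b : Mon a, (∏ i, ω ^ (((a i).1 - (b i).1) * 3 ^ (i : ℕ)) *
      ω⁻¹ ^ ((b i).1 * 3 ^ (i : ℕ))) = wtVal ω a b := fun b => by
    rw [wtVal, Finset.prod_mul_distrib, Finset.prod_pow_eq_pow_sum, Finset.prod_pow_eq_pow_sum]
  simp only [e2]
  rw [Finset.prod_eq_multiset_prod, Polynomial.roots_multiset_prod]
  · simp [Multiset.bind_map, Multiset.map_map, Function.comp_def, Polynomial.roots_X_sub_C]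
  · intro h
    obtain ⟨b, -, hb⟩ := Multiset.mem_map.1 h
    exact Polynomial.X_sub_C_ne_zero _ hb

omit hk in
/-- The eigenvalue sum. -/
noncomputable def eigSum {U : Type*} [AddCommGroup U] [Module K U] [FiniteDimensional K U]
    (f : Module.End K U) (φ : K → ℤ) : ℤ :=
  (f.charpoly.roots.map φ).sum

omit hk in
theorem eigSum_split {U : Type*} [AddCommGroup U] [Module K U] [FiniteDimensional K U]
    (f : Module.End K U) (W : Submodule K U) (hW : W ≤ W.comap f) (φ : K → ℤ) :
    eigSum f φ = eigSum (f.restrict hW) φ + eigSum (W.mapQ W f hW) φ := by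
  have e : f.charpoly = (f.restrict hW).charpoly * (W.mapQ W f hW).charpoly := by
    refine Polynomial.funext fun t => ?_
    rw [Polynomial.eval_mul, LinearMap.eval_charpoly, LinearMap.eval_charpoly,
      LinearMap.eval_charpoly]
    have hW' : W ≤ W.comap (algebraMap K (Module.End K U) t - f) := fun x hx => by
      simp only [Submodule.mem_comap, LinearMap.sub_apply, Module.algebraMap_end_apply]
      exact W.sub_mem (W.smul_mem _ hx) (hW hx)
    rw [LinearMap.det_eq_det_mul_det W _ hW']
    congr 2
    ext x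
    simp
  rw [eigSum, e, Polynomial.roots_mul (mul_ne_zero (LinearMap.charpoly_monic _).ne_zero
    (LinearMap.charpoly_monic _).ne_zero), Multiset.map_add, Multiset.sum_add]
  rfl

/-- **Eigenvalue bound.** -/
theorem sum_nonneg {m : ℕ} (s : Fin m → F) (ω : Fin m → K) (hω : ∀ j, ω j ≠ 0)
    (hω2 : ∀ j, ω j * ω j ≠ 1) (hs : ∀ j, ι (s j) = ω j + (ω j)⁻¹) (φ : Fin m → K → ℤ)
    (hφ : ∀ a : Fin k → Fin 3, Even (∑ i, (a i).1) →
      0 ≤ ∑ j, ∑ b : Mon a, φ j (wtVal (ω j) a b)) :
    ∀ {U : Type _} [AddCommGroup U] [Module K U] [FiniteDimensional K U]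
      (ρ : Matrix.SpecialLinearGroup (Fin 2) F →* Module.End K U), ρ negOne = 1 →
      0 ≤ ∑ j, eigSum (ρ (comp (s j))) (φ j) := by
  suffices H : ∀ n : ℕ, ∀ {U : Type _} [AddCommGroup U] [Module K U] [FiniteDimensional K U]
      (ρ : Matrix.SpecialLinearGroup (Fin 2) F →* Module.End K U), Module.finrank K U = n →
      ρ negOne = 1 → 0 ≤ ∑ j, eigSum (ρ (comp (s j))) (φ j) by
    intro U _ _ _ ρ hneg
    exact H _ ρ rfl hneg
  intro n
  induction n using Nat.strong_induction_on with
  | _ n ih =>
    intro U _ _ _ ρ hn hneg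
    by_cases hnt : Nontrivial U
    swap
    · haveI := not_nontrivial_iff_subsingleton.1 hnt
      refine le_of_eq (Finset.sum_eq_zero fun j _ => ?_).symm
      rw [eigSum, Multiset.eq_zero_of_forall_notMem (s := (ρ (comp (s j))).charpoly.roots)]
      · simp
      · intro x hx
        have h0 : (ρ (comp (s j))).charpoly.natDegree = 0 := by
          rw [LinearMap.charpoly_natDegree]; exact Module.finrank_zero_of_subsingleton
        have := Polynomial.card_roots' (ρ (comp (s j))).charpoly
        rw [h0] at this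
        rw [Multiset.card_eq_zero.1 (Nat.le_zero.1 this)] at hx
        exact Multiset.notMem_zero x hx
    by_cases hirr : Irred ρ
    · obtain ⟨a, hev, e, he⟩ := exists_model (ι := ι) hk hirr hneg
      refine le_of_le_of_eq (hφ a hev) (Finset.sum_congr rfl fun j _ => ?_)
      have hc : model ι a (comp (s j)) = e.conj (ρ (comp (s j))) := LinearMap.ext fun x => by
        rw [LinearEquiv.conj_apply_apply, he, LinearEquiv.apply_symm_apply]
      rw [eigSum, ← LinearEquiv.charpoly_conj e, ← hc, roots_model (hω j) (hω2 j) (hs j),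
        Multiset.map_map]
      rfl
    simp only [Irred, not_and, not_forall, not_or] at hirr
    obtain ⟨W, hW, hW0, hW1⟩ := hirr hnt
    let ρ₁ : Matrix.SpecialLinearGroup (Fin 2) F →* Module.End K W :=
      { toFun := fun g => (ρ g).restrict (hW g)
        map_one' := LinearMap.ext fun x => Subtype.ext (by simp)
        map_mul' := fun g g' => LinearMap.ext fun x => Subtype.ext (by simp) }
    let ρ₂ : Matrix.SpecialLinearGroup (Fin 2) F →* Module.End K (U ⧸ W) :=
      { toFun := fun g => W.mapQ W (ρ g) (hW g)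
        map_one' := Submodule.linearMap_qext _ (LinearMap.ext fun x => by simp)
        map_mul' := fun g g' => Submodule.linearMap_qext _ (LinearMap.ext fun x => by simp) }
    have h1 : Module.finrank K W < n := hn ▸ Submodule.finrank_lt hW1
    have h2 : Module.finrank K (U ⧸ W) < n := by
      have := W.finrank_quotient_add_finrank
      have := Submodule.one_le_finrank_iff.2 hW0
      omega
    have e1 : ρ₁ negOne = 1 := LinearMap.ext fun x => Subtype.ext (by simp [ρ₁, hneg])
    have e2 : ρ₂ negOne = 1 := Submodule.linearMap_qext _ (LinearMap.ext fun x => by simp [ρ₂, hneg])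
    have := add_nonneg (ih _ h1 ρ₁ rfl e1) (ih _ h2 ρ₂ rfl e2)
    rw [← Finset.sum_add_distrib] at this
    exact this.trans_eq (Finset.sum_congr rfl fun j _ => (eigSum_split _ W (hW _) (φ j)).symm)

end CfsgLib.EEightSub
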