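import Cfsg.Agent.EEightSub.Data
import Mathlib.Data.List.Basic

/-!
# Kernel checks of the tables for `L₂(243)` and `L₂(729)` in `E₈(3)`
-/

set_option autoImplicit false

namespace CfsgLib.EEightSub

open Cfsg.Lie

/-- An entry of a table of integer rows. -/
def tab (T : List (List ℤ)) (r k : ℕ) : ℤ := (T.getD r []).getD k 0

/-- The tables agree with the datum. -/
theorem cwTab_eq : chevE8.cartanSR.toList.map Array.toList =
    (List.range 8).map fun k => cwTab.map fun row => row.getD k 0 := by decide +kernel

theorem coTab_eq : chevE8.coroot.toList.map Array.toList = coTab := by decide +kernel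

theorem cwTab_length : cwTab.length = 240 := by decide +kernel

theorem getD2_toList (A : Array (Array ℤ)) (i j : ℕ) :
    (A.getD i #[]).getD j 0 = ((A.toList.map Array.toList).getD i []).getD j 0 := by
  simp only [Array.getD_eq_getD_getElem?, List.getD_eq_getElem?_getD, List.getElem?_map,
    Array.getElem?_toList]
  cases A[i]? <;> simp

theorem cartan_eq_tab {k r : ℕ} (hk : k < 8) (hr : r < 240) :
    chevE8.cartan k r = tab cwTab r k := by
  rw [ChevalleyDatum.cartan, getD2_toList, cwTab_eq, tab]
  have hlen := cwTab_length
  simp [List.getD_eq_getElem?_getD, hk, List.getElem?_eq_getElem (show r < cwTab.length by omega)]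

theorem corootAt_eq_tab (r k : ℕ) : Weyl.corootAt chevE8 r k = tab coTab r k := by
  rw [Weyl.corootAt, getD2_toList, coTab_eq, tab]

theorem simTab_eq : simTab = (List.range 8).map chevE8.simple := by decide +kernel

/-- The values of a vector on the roots and its eigen-property for the word. -/
def vecOk (n : ℕ) (word : List ℕ) (u : List ℤ) (U : List ℕ) : Bool :=
  U.length == 240 && word.all (fun i => decide (i < 8)) && (List.range 240).all fun r =>
    decide ((U.getD r 0 : ℤ) ≡ ((List.range 8).map fun k => tab cwTab r k * u.getD k 0).sum [ZMOD n]) &&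
    decide (3 * U.getD r 0 % n = U.getD (Weyl.rwalk Weyl.reflTableE8 word r) 0 % n)

theorem vecOk_u121 : vecOk 121 word121 uVec121 uVal121 = true := by decide +kernel
theorem vecOk_v121 : vecOk 121 word121 vVec121 vVal121 = true := by decide +kernel
theorem vecOk_u73 : vecOk 73 word73 uVec73 uVal73 = true := by decide +kernel
theorem vecOk_v73 : vecOk 73 word73 vVec73 vVal73 = true := by decide +kernel

/-- A byte of a packed table, without the offset. -/
def gW (N x : ℕ) : ℤ := ((N >>> (8 * x)) % 256 : ℕ) - (64 : ℤ)

/-- A weight function is invariant under multiplication by three and by minus one. -/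
def invOk (n : ℕ) (g : ℕ → ℤ) : Bool :=
  (List.range n).all fun x => g (3 * x % n) == g x && g ((n - x) % n) == g x

/-- The sum over monomials of a function of the two exponents. -/
def sumMon (g : ℕ → ℕ → ℤ) : List ℕ → ℕ → ℕ → ℕ → ℤ
  | [], P, Q, _ => g P Q
  | a :: as, P, Q, t =>
    ((List.range (a + 1)).map fun b => sumMon g as (P + (a - b) * t) (Q + b * t) (3 * t)).sum

/-- All digit lists of a length satisfy a condition. -/
def allA : ℕ → (List ℕ → Bool) → Bool
  | 0, chk => chk []
  | k + 1, chk => (List.range 3).all fun x => allA k fun l => chk (x :: l)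

/-- The function of the exponents attached to a weight function on half the residues. -/
def gExp (n N P Q : ℕ) : ℤ := gW N ((P + (2 * n - 1) * Q) % (2 * n) / 2)

/-- Non-negativity on all twisted tensor products. -/
def modOk (k : ℕ) (g : ℕ → ℕ → ℤ) : Bool :=
  allA k fun l => decide (l.sum % 2 = 1) || decide (0 ≤ sumMon g l 0 0 1)

/-- The values on all roots of the torus element of a pair of exponents. -/
def valL (n : ℕ) (U V : List ℕ) (a b : ℕ) : List ℕ :=
  List.zipWith (fun u v => (a * u + b * v) % n) U V

/-- The sum of a weight function over the eigenvalues of a torus element. -/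
def target (n N c : ℕ) (L : List ℕ) : ℤ :=
  8 * gW N 0 + (L.map fun x => gW N (c * x % n)).sum

/-- Every unit is up to sign and a power of three one of the representatives. -/
def unitOk (n p k : ℕ) (units : List ℕ) : Bool :=
  (List.range n).all fun x => x % p == 0 ||
    ((List.range n).any fun y => x * y % n == 1) &&
    units.any fun c => (List.range k).any fun i =>
      x == 3 ^ i * c % n || x == (n - 1) * (3 ^ i * c) % n

theorem unitOk121 : unitOk 121 11 5 units121 = true := by decide +kernel
theorem unitOk73 : unitOk 73 73 12 units73 = true := by decide +kernel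

/-- The lines modulo 121. -/
def line121 (li : ℕ) : ℕ × ℕ := if li < 121 then (1, li) else (11 * (li - 121), 1)

/-- The lines modulo 73. -/
def line73 (li : ℕ) : ℕ × ℕ := if li < 73 then (1, li) else (0, 1)

/-- The weight functions for 121. -/
def cert121 (j : ℕ) : ℕ := wFun121.getD j 0

/-- The weight functions for 73. -/
def cert73 (j : ℕ) : ℕ := wFun73.getD j 0

/-- The weight functions for the involution. -/
def certZ (j : ℕ) : ℕ := zFun73.getD j 0

/-- The combined function of exponents for 729. -/
def gExp729 (j : ℕ) (P Q : ℕ) (P' Q' : ℕ) : ℤ := gExp 73 (cert73 j) P Q + gExp 2 (certZ j) P' Q'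

def invOk121 : Bool := (List.range 10).all fun j => invOk 121 (gW (cert121 j))
def invOk73 : Bool := (List.range 6).all fun j => invOk 73 (gW (cert73 j))

theorem invOk121_eq : invOk121 = true := by decide +kernel
theorem invOk73_eq : invOk73 = true := by decide +kernel

def modOk121 (j : ℕ) : Bool := modOk 5 (gExp 121 (cert121 j))
def modOk73 (j : ℕ) : Bool := modOk 6 fun P Q => gExp729 j P Q P Q

/-- The chosen functions are negative on the torus elements of a line modulo 121. -/
def lineOk121 (li : ℕ) : Bool :=
  let L := valL 121 uVal121 vVal121 (line121 li).1 (line121 li).2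
  (List.range 11).all fun ci =>
    let j := (choice121.getD li []).getD ci 0
    decide (j < 10) && decide (target 121 (cert121 j) (units121.getD ci 0) L < 0)

/-- The pairing of two roots. -/
def pairT (r s : ℕ) : ℤ := (List.zipWith (· * ·) (coTab.getD r []) (cwTab.getD s [])).sum

/-- A root is compatible with images of the first simple roots. -/
def compat (acc : List ℕ) (r : ℕ) : Bool :=
  (List.range acc.length).all fun i =>
    pairT (acc.getD i 0) r == pairT (simTab.getD i 0) (simTab.getD acc.length 0)

/-- Every compatible choice of candidates is the system of simple roots. -/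
def search : List (List ℕ) → List ℕ → Bool
  | [], acc => acc == simTab
  | c :: cs, acc => c.all fun r => !compat acc r || search cs (acc ++ [r])

/-- The candidates for the images of the simple roots. -/
def cands (L : List ℕ) : List (List ℕ) :=
  simTab.map fun s => ((List.range 240).zip L).filterMap fun p =>
    if p.2 == L.getD s 0 then some p.1 else none

/-- A line modulo 73 has a trivial stabiliser or is negative for the chosen functions. -/
def lineOk73 (li : ℕ) : Bool :=
  let L := valL 73 uVal73 vVal73 (line73 li).1 (line73 li).2
  if choice73.getD li [] = [] then L.all (fun x => x != 0) && search (cands L) []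
  else (List.range 6).all fun ci => (List.range 2).all fun f =>
    let j := (choice73.getD li []).getD (2 * ci + f) 0
    let fix := 136 - 16 * f
    decide (j < 6) && decide (target 73 (cert73 j) (units73.getD ci 0) L +
      (fix * gW (certZ j) 0 + (248 - fix : ℕ) * gW (certZ j) 1) < 0)

/-- The inverse modulo five of the eigen-equation of the word for 73. -/
def inv5 : List (List ℤ) :=
  [[4, 3, 1, 2, 2, 4, 0, 4], [4, 1, 0, 3, 4, 1, 2, 0], [0, 3, 0, 0, 0, 4, 2, 0],
   [2, 2, 2, 0, 0, 1, 3, 0], [4, 1, 1, 1, 3, 1, 1, 0], [4, 0, 1, 1, 3, 3, 4, 1],
   [0, 0, 2, 1, 2, 2, 0, 3], [4, 4, 0, 3, 2, 4, 2, 2]]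

/-- The eigen-equation modulo five has only the trivial solution. -/
def fiveOk : Bool :=
  (List.range 8).all fun i => (List.range 8).all fun k =>
    decide (((List.range 8).map fun j => tab inv5 i j *
      (tab cwTab (Weyl.rwalk Weyl.reflTableE8 word73 (simTab.getD j 0)) k -
        3 * tab cwTab (simTab.getD j 0) k)).sum ≡ (if i = k then 1 else 0) [ZMOD 5])

theorem fiveOk_eq : fiveOk = true := by decide +kernel

end CfsgLib.EEightSub
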