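import Cfsg.Agent.EEightSub.Checks

/-! Kernel checks of the weight functions on the torus elements. -/

set_option autoImplicit false
set_option Elab.async false

namespace CfsgLib.EEightSub

theorem lineOk121_0 : ((List.range' 0 33).all lineOk121) = true := by decide +kernel
theorem lineOk121_1 : ((List.range' 33 33).all lineOk121) = true := by decide +kernel
theorem lineOk121_2 : ((List.range' 66 33).all lineOk121) = true := by decide +kernel
theorem lineOk121_3 : ((List.range' 99 33).all lineOk121) = true := by decide +kernel

theorem lineOk121_all {li : ℕ} (h : li < 132) : lineOk121 li = true := by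
  rcases Nat.lt_or_ge li 66 with h1 | h1 <;> rcases Nat.lt_or_ge li 33 with h2 | h2 <;>
    rcases Nat.lt_or_ge li 99 with h3 | h3 <;>
    first
    | omega
    | exact List.all_eq_true.1 lineOk121_0 li (List.mem_range'_1.2 (by omega))
    | exact List.all_eq_true.1 lineOk121_1 li (List.mem_range'_1.2 (by omega))
    | exact List.all_eq_true.1 lineOk121_2 li (List.mem_range'_1.2 (by omega))
    | exact List.all_eq_true.1 lineOk121_3 li (List.mem_range'_1.2 (by omega))

theorem lineOk73_0 : ((List.range' 0 37).all lineOk73) = true := by decide +kernel
theorem lineOk73_1 : ((List.range' 37 37).all lineOk73) = true := by decide +kernel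

theorem lineOk73_all {li : ℕ} (h : li < 74) : lineOk73 li = true := by
  rcases Nat.lt_or_ge li 37 with h1 | h1
  · exact List.all_eq_true.1 lineOk73_0 li (List.mem_range'_1.2 (by omega))
  · exact List.all_eq_true.1 lineOk73_1 li (List.mem_range'_1.2 (by omega))

end CfsgLib.EEightSub
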