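import Cfsg.Agent.EEightSub.Checks
import Mathlib.Tactic.IntervalCases

/-! Kernel checks of the weight functions on the twisted tensor modules. -/

set_option autoImplicit false
set_option Elab.async false

namespace CfsgLib.EEightSub

theorem modOk121_0 : modOk121 0 = true := by decide +kernel
theorem modOk121_1 : modOk121 1 = true := by decide +kernel
theorem modOk121_2 : modOk121 2 = true := by decide +kernel
theorem modOk121_3 : modOk121 3 = true := by decide +kernel
theorem modOk121_4 : modOk121 4 = true := by decide +kernel
theorem modOk121_5 : modOk121 5 = true := by decide +kernel
theorem modOk121_6 : modOk121 6 = true := by decide +kernel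
theorem modOk121_7 : modOk121 7 = true := by decide +kernel
theorem modOk121_8 : modOk121 8 = true := by decide +kernel
theorem modOk121_9 : modOk121 9 = true := by decide +kernel

theorem modOk121_all : ∀ j < 10, modOk121 j = true := by
  intro j hj
  interval_cases j
  exacts [modOk121_0, modOk121_1, modOk121_2, modOk121_3, modOk121_4, modOk121_5, modOk121_6, modOk121_7, modOk121_8, modOk121_9]

theorem modOk73_0 : modOk73 0 = true := by decide +kernel
theorem modOk73_1 : modOk73 1 = true := by decide +kernel
theorem modOk73_2 : modOk73 2 = true := by decide +kernel
theorem modOk73_3 : modOk73 3 = true := by decide +kernel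
theorem modOk73_4 : modOk73 4 = true := by decide +kernel
theorem modOk73_5 : modOk73 5 = true := by decide +kernel

theorem modOk73_all : ∀ j < 6, modOk73 j = true := by
  intro j hj
  interval_cases j
  exacts [modOk73_0, modOk73_1, modOk73_2, modOk73_3, modOk73_4, modOk73_5]

end CfsgLib.EEightSub
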