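import Cfsg.Agent.EEightSub.Regular
import Cfsg.Agent.EEightSub.ModRuns
import Cfsg.Agent.EEightSub.LineRuns
import Cfsg.Agent.SL2Trace.Basic
import Mathlib.FieldTheory.IsAlgClosed.Basic

/-!
# `E₈(3)` contains no `L₂(243)` and no `L₂(729)`
-/

set_option autoImplicit false
set_option linter.style.haveILetI false

namespace CfsgLib.EEightSub

open Cfsg.Lie CfsgLib.Chevalley CfsgLib.ChevTorus CfsgLib.LangChev CfsgLib.LangTorus
open scoped MatrixGroups

local notation "D" => chevE8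

variable {F : Type*} [Field F]

theorem comp_pow_mul (ι : F →+* 𝕂) {s : F} {ω : 𝕂} (hω : ω ≠ 0) (hs : ι s = ω + ω⁻¹) (m : ℕ) :
    ((comp s ^ m : SL(2, F)) : Matrix (Fin 2) (Fin 2) F).map ι * !![1, 1; -ω, -ω⁻¹] =
      !![1, 1; -ω, -ω⁻¹] * !![ω ^ m, 0; 0, ω⁻¹ ^ m] := by
  induction m with
  | zero => simp [← Matrix.one_fin_two]
  | succ m ih =>
    have h1 : (comp s).1.map ι * !![1, 1; -ω, -ω⁻¹] = !![1, 1; -ω, -ω⁻¹] * !![ω, 0; 0, ω⁻¹] := by
      ext i j
      fin_cases i <;> fin_cases j <;> simp [comp, Matrix.mul_apply, Fin.sum_univ_two, hs] <;>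
        field_simp <;> ring
    rw [pow_succ, Matrix.SpecialLinearGroup.coe_mul, Matrix.map_mul, Matrix.mul_assoc, h1,
      ← Matrix.mul_assoc, ih, Matrix.mul_assoc]
    congr 1
    ext i j
    fin_cases i <;> fin_cases j <;> simp [Matrix.mul_apply, Fin.sum_univ_two, pow_succ]

theorem base_unit {ω : 𝕂} (hω : ω ≠ 0) (hω2 : ω * ω ≠ 1) :
    IsUnit (!![1, 1; -ω, -ω⁻¹] : Matrix (Fin 2) (Fin 2) 𝕂) := by
  rw [Matrix.isUnit_iff_isUnit_det, Matrix.det_fin_two, isUnit_iff_ne_zero]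
  simp
  field_simp
  intro h
  apply hω2
  linear_combination h

theorem trace_comp_pow (ι : F →+* 𝕂) {s : F} {ω : 𝕂} (hω : ω ≠ 0) (hω2 : ω * ω ≠ 1)
    (hs : ι s = ω + ω⁻¹) (m : ℕ) :
    ι ((comp s ^ m : SL(2, F)) : Matrix (Fin 2) (Fin 2) F).trace = ω ^ m + ω⁻¹ ^ m := by
  obtain ⟨u, hu⟩ := base_unit hω hω2
  have h := comp_pow_mul ι hω hs m
  rw [← hu] at h
  have e := congrArg (fun M => Matrix.trace (M * (↑u⁻¹ : Matrix (Fin 2) (Fin 2) 𝕂))) h
  simp only [Matrix.mul_assoc, Units.mul_inv, Matrix.mul_one] at e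
  rw [← Matrix.mul_assoc, Matrix.trace_units_conj, Matrix.trace_fin_two_of] at e
  rw [← e, Matrix.trace_fin_two, Matrix.trace_fin_two, map_add]
  rfl

theorem comp_pow_eq_pm (ι : F →+* 𝕂) {s : F} {ω : 𝕂} (hω : ω ≠ 0) (hω2 : ω * ω ≠ 1)
    (hs : ι s = ω + ω⁻¹) (m : ℕ) :
    (comp s ^ m = 1 ∨ comp s ^ m = -1) ↔ (ω ^ m = 1 ∨ ω ^ m = -1) := by
  have h := comp_pow_mul ι hω hs m
  constructor
  · have key : ∀ c : F, ((comp s ^ m : SL(2, F)) : Matrix (Fin 2) (Fin 2) F) = c • 1 →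
        ω ^ m = ι c := fun c hc => by
      rw [hc] at h
      have := congrFun (congrFun h 0) 0
      simpa [Matrix.mul_apply, Fin.sum_univ_two] using this.symm
    rintro (e | e)
    · exact Or.inl (by rw [key 1 (by rw [e]; simp), map_one])
    · exact Or.inr (by rw [key (-1) (by rw [e]; simp [Matrix.SpecialLinearGroup.coe_neg]), map_neg, map_one])
  · have key : ∀ c : F, ω ^ m = ι c → ω⁻¹ ^ m = ι c →
        ((comp s ^ m : SL(2, F)) : Matrix (Fin 2) (Fin 2) F) = c • 1 := fun c h1 h2 => by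
      obtain ⟨u, hu⟩ := base_unit hω hω2
      rw [← hu, h1, h2] at h
      have e2 : (!![ι c, 0; 0, ι c] : Matrix (Fin 2) (Fin 2) 𝕂) = ι c • 1 := by
        ext i j
        fin_cases i <;> fin_cases j <;> simp
      rw [e2, mul_smul_comm, Matrix.mul_one] at h
      have h3 : ((comp s ^ m : SL(2, F)) : Matrix (Fin 2) (Fin 2) F).map ι = ι c • 1 :=
        (Units.mul_left_inj u).1 (h.trans (by rw [smul_mul_assoc, one_mul]))
      refine Matrix.map_injective ι.injective (h3.trans ?_)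
      ext i j
      fin_cases i <;> fin_cases j <;> simp
    rintro (e | e)
    · refine Or.inl (Subtype.ext ((key 1 (by rw [e, map_one]) ?_).trans (by simp)))
      rw [inv_pow, e, inv_one, map_one]
    · refine Or.inr (Subtype.ext ((key (-1) (by rw [e, map_neg, map_one]) ?_).trans
        (by simp [Matrix.SpecialLinearGroup.coe_neg])))
      rw [inv_pow, e, map_neg, map_one]
      norm_num

theorem negOne_eq : (negOne : SL(2, F)) = -1 := by
  apply Subtype.ext
  ext i j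
  fin_cases i <;> fin_cases j <;> simp [negOne, hEl, Matrix.SpecialLinearGroup.coe_neg]

theorem exists_primitive (n : ℕ) (hn : ¬ 3 ∣ n) : ∃ ω : 𝕂, IsPrimitiveRoot ω n := by
  haveI : CharP 𝕂 3 := charP_of_injective_algebraMap (algebraMap (ZMod 3) 𝕂).injective 3
  haveI : NeZero (n : 𝕂) := ⟨by rw [Ne, CharP.cast_eq_zero_iff 𝕂 3]; exact hn⟩
  exact HasEnoughRootsOfUnity.exists_primitiveRoot 𝕂 n

theorem charP_three [Fintype F] {k : ℕ} (hk : Fintype.card F = 3 ^ k) : CharP F 3 := by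
  haveI : Fact (Nat.Prime 3) := ⟨by norm_num⟩
  exact charP_of_card_eq_prime_pow hk

theorem exists_emb [Fintype F] {k : ℕ} (hk : Fintype.card F = 3 ^ k) :
    Nonempty (F →+* 𝕂) := by
  haveI := charP_three hk
  letI := ZMod.algebra F 3
  exact ⟨(IsAlgClosed.lift (R := ZMod 3) (S := F) (M := 𝕂)).toRingHom⟩

theorem exists_trace [Fintype F] (ι : F →+* 𝕂) {k : ℕ} (hk : Fintype.card F = 3 ^ k) {ω : 𝕂}
    (h : ω ^ 3 ^ k = ω ∨ ω ^ 3 ^ k = ω⁻¹) : ∃ s : F, ι s = ω + ω⁻¹ := by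
  letI := ι.toAlgebra
  haveI : Fact (Nat.Prime 3) := ⟨by norm_num⟩
  haveI : CharP 𝕂 3 := charP_of_injective_algebraMap (algebraMap (ZMod 3) 𝕂).injective 3
  refine CfsgLib.LinearOrders.exists_algebraMap_eq (ω + ω⁻¹) ?_
  rw [hk, add_pow_char_pow, inv_pow]
  rcases h with e | e <;> rw [e]
  rw [inv_inv, add_comm]

theorem orderOf_three_11 : orderOf ((3 : ℕ) : ZMod 11) = 5 := by
  haveI : Fact (Nat.Prime 5) := ⟨by norm_num⟩
  exact orderOf_eq_prime (by decide) (by decide)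

theorem orderOf_three_73 : orderOf ((3 : ℕ) : ZMod 73) = 12 :=
  (orderOf_eq_iff (by norm_num)).2 ⟨by decide +kernel, fun m hm h0 => by
    interval_cases m <;> decide +kernel⟩

theorem eleven_factor : (Nat.card G3).factorization 11 = 2 * 2 := by
  haveI : Fact (Nat.Prime 11) := ⟨by norm_num⟩
  rw [SylowTori.factorization_natCard_group goodWE8 Weyl.rootE8_good smithE8
    [2, 8, 12, 14, 18, 20, 24, 30] rfl (fun x i => @Weyl.poincareE8 ℕ _ i x)
    (F := ZMod 3) (r := 11) (by rw [ZMod.card]; decide) (by decide) (by decide +kernel), ZMod.card]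
  have h1 := orderOf_three_11
  have h2 : FGS.SylowGL.expo 3 11 = 2 := by
    rw [← FGS.SylowGL.factorization_top (by norm_num) (by decide), h1, show (3 : ℕ) ^ 5 - 1 = 2 * 11 ^ 2 by norm_num,
      Nat.factorization_mul (by norm_num) (by norm_num), Finsupp.add_apply,
      Nat.factorization_eq_zero_of_not_dvd (by decide), Nat.Prime.factorization_pow (by norm_num),
      Finsupp.single_eq_same]
  rw [h1, h2]
  rfl

theorem no_243 [Fintype F] (hF : Fintype.card F = 243) (ψ : SL(2, F) →* G3)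
    (hψ : ∀ g, ψ g = 1 ↔ g = 1 ∨ g = -1) : False := by
  classical
  have hk : Fintype.card F = 3 ^ 5 := hF
  haveI := charP_three hk
  haveI : CharP 𝕂 3 := charP_of_injective_algebraMap (algebraMap (ZMod 3) 𝕂).injective 3
  obtain ⟨ι⟩ := exists_emb hk
  obtain ⟨ω, hω⟩ := exists_primitive 242 (by norm_num)
  have h0 : ω ≠ 0 := hω.ne_zero (by norm_num)
  have h2 : ω * ω ≠ 1 := by
    rw [← pow_two]; exact hω.pow_ne_one_of_pos_of_lt (by norm_num) (by norm_num)
  obtain ⟨s, hs⟩ := exists_trace ι hk (ω := ω) (Or.inl (by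
    rw [show (3 : ℕ) ^ 5 = 242 + 1 by norm_num, pow_succ, hω.pow_eq_one, one_mul]))
  set x := ψ (comp s) with hx
  have h121 : ω ^ 121 = -1 := (hω.pow (by norm_num) (show 242 = 121 * 2 by norm_num)).eq_neg_one_of_two_right
  have hxn : x ^ 121 = 1 := by
    rw [hx, ← map_pow, hψ]
    exact (comp_pow_eq_pm ι h0 h2 hs 121).2 (Or.inr h121)
  have hx11 : x ^ 11 ≠ 1 := by
    rw [hx, ← map_pow, Ne, hψ]
    intro e
    rcases (comp_pow_eq_pm ι h0 h2 hs 11).1 e with e | e
    · exact hω.pow_ne_one_of_pos_of_lt (by norm_num) (by norm_num) e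
    · refine hω.pow_ne_one_of_pos_of_lt (l := 22) (by norm_num) (by norm_num) ?_
      rw [show 22 = 11 * 2 by norm_num, pow_mul, e, neg_one_sq]
  have hz : IsPrimitiveRoot (ω ^ 2) 121 := hω.pow (by norm_num) rfl
  set ζ : 𝕂ˣ := (hz.isUnit (by norm_num)).unit
  have hζ : IsPrimitiveRoot ζ 121 := IsPrimitiveRoot.coe_units_iff.1 hz
  haveI : Fact (Nat.Prime 11) := ⟨by norm_num⟩
  obtain ⟨g, -, -, hg⟩ := exists_conj_torus vecOk_u121 vecOk_v121 ⟨rfl, rfl⟩ ⟨rfl, rfl⟩ 11 2 rfl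
    eleven_factor hζ
  obtain ⟨y, A, B, e⟩ := hg x hxn
  have hAB : ¬ (11 ∣ A ∧ 11 ∣ B) := by
    rintro ⟨⟨A', rfl⟩, ⟨B', rfl⟩⟩
    apply hx11
    have h1 : phiK ((y * x * y⁻¹) ^ 11) = 1 := by
      rw [map_pow, e, conj_pow, SylowTori.torC_pow,
        show cAB ζ uVec121 vVec121 (11 * A') (11 * B') ^ 11 = 1 from funext fun k => ?_]
      · show g * torHom D 𝕂 1 * g⁻¹ = 1
        rw [map_one, mul_one, mul_inv_cancel]
      · simp only [Pi.pow_apply, cAB, Pi.one_apply]
        rw [← zpow_natCast, ← zpow_mul, hζ.zpow_eq_one_iff_dvd]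
        exact ⟨(A' : ℤ) * uVec121.getD (k : ℕ) 0 + (B' : ℤ) * vVec121.getD (k : ℕ) 0, by push_cast; ring⟩
    rw [← map_one phiK, phiK_injective.eq_iff, conj_pow] at h1
    exact conj_eq_one_iff.1 h1
  obtain ⟨li, hli, ci, hci, i, sg, hsg, hA, hB⟩ := lines121 hAB
  have hline := lineOk121_all hli
  simp only [lineOk121, List.all_eq_true, List.mem_range, Bool.and_eq_true, decide_eq_true_eq]
    at hline
  obtain ⟨hj, htgt⟩ := hline ci hci
  set j := (choice121.getD li []).getD ci 0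
  have hinv : invOk 121 (gW (cert121 j)) = true := by
    have := invOk121_eq
    simp only [invOk121, List.all_eq_true, List.mem_range] at this
    exact this j hj
  have hpos := sum_nonneg (ι := ι) (K := 𝕂) (k := 5) hk (m := 1) (fun _ => s) (fun _ => ω)
    (fun _ => h0) (fun _ => h2) (fun _ => hs) (fun _ => phiOf (ω ^ 2) 121 (gW (cert121 j))) (by
      intro a ha
      rw [Fin.sum_univ_one]
      simp only [phiOf_wtVal (n := 121) hω (by norm_num) _ a ha]
      exact mod_spec (modOk121_all j hj) a ha)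
    (adRep.comp ψ) (by rw [MonoidHom.comp_apply, (hψ _).2 (Or.inr negOne_eq), map_one])
  rw [Fin.sum_univ_one] at hpos
  change 0 ≤ eigSum (adRep x) (phiOf (ζ : 𝕂) 121 (gW (cert121 j))) at hpos
  rw [eigSum_cAB hζ vecOk_u121 vecOk_v121 (by norm_num) _ e] at hpos
  obtain ⟨hLlen, hLget⟩ := valL_spec (n := 121) (vec_spec vecOk_u121).1 (vec_spec vecOk_v121).1
    (line121 li).1 (line121 li).2
  rw [target_eq hLlen hLget] at htgt
  refine absurd hpos (not_le.2 (lt_of_eq_of_lt ?_ htgt))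
  congr 1
  refine Finset.sum_congr rfl fun r _ => ?_
  refine inv_apply (i := i) hinv (by norm_num) hsg ?_
  refine Nat.ModEq.trans ((hA.mul_right _).add (hB.mul_right _)) ?_
  refine congrArg (· % 121) ?_
  ring

theorem seventythree_factor : (Nat.card G3).factorization 73 = 2 * 1 := by
  haveI : Fact (Nat.Prime 73) := ⟨by norm_num⟩
  rw [SylowTori.factorization_natCard_group goodWE8 Weyl.rootE8_good smithE8
    [2, 8, 12, 14, 18, 20, 24, 30] rfl (fun x i => @Weyl.poincareE8 ℕ _ i x)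
    (F := ZMod 3) (r := 73) (by rw [ZMod.card]; decide) (by decide) (by decide +kernel), ZMod.card]
  have h1 := orderOf_three_73
  have h2 : FGS.SylowGL.expo 3 73 = 1 := by
    rw [← FGS.SylowGL.factorization_top (by norm_num) (by decide), h1, show (3 : ℕ) ^ 12 - 1 = 7280 * 73 ^ 1 by norm_num,
      Nat.factorization_mul (by norm_num) (by norm_num), Finsupp.add_apply,
      Nat.factorization_eq_zero_of_not_dvd (by norm_num), Nat.Prime.factorization_pow (by norm_num),
      Finsupp.single_eq_same]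
  rw [h1, h2]
  rfl

set_option maxHeartbeats 1000000 in
theorem no_729 [Fintype F] (hF : Fintype.card F = 729) (ψ : SL(2, F) →* G3)
    (hψ : ∀ g, ψ g = 1 ↔ g = 1 ∨ g = -1) : False := by
  classical
  have hk : Fintype.card F = 3 ^ 6 := hF
  haveI := charP_three hk
  haveI : CharP 𝕂 3 := charP_of_injective_algebraMap (algebraMap (ZMod 3) 𝕂).injective 3
  obtain ⟨ι⟩ := exists_emb hk
  obtain ⟨ω, hω⟩ := exists_primitive 730 (by norm_num)
  obtain ⟨q, hq⟩ := exists_primitive 4 (by norm_num)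
  have h0 : ω ≠ 0 := hω.ne_zero (by norm_num)
  have h2 : ω * ω ≠ 1 := by
    rw [← pow_two]; exact hω.pow_ne_one_of_pos_of_lt (by norm_num) (by norm_num)
  have hinvω : ω ^ 729 = ω⁻¹ :=
    eq_inv_of_mul_eq_one_left (by rw [← pow_succ, hω.pow_eq_one])
  have hω' : IsPrimitiveRoot (ω ^ 5) (2 * 73) := hω.pow (by norm_num) (by norm_num)
  have h0' : ω ^ 5 ≠ 0 := pow_ne_zero _ h0
  have h2' : ω ^ 5 * ω ^ 5 ≠ 1 := by
    rw [← pow_two]; exact hω'.pow_ne_one_of_pos_of_lt (by norm_num) (by norm_num)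
  obtain ⟨s, hs⟩ := exists_trace ι hk (ω := ω) (Or.inr hinvω)
  obtain ⟨s', hs'⟩ := exists_trace ι hk (ω := ω ^ 5) (Or.inr (by
    rw [← pow_mul, mul_comm, pow_mul, show (3 : ℕ) ^ 6 = 729 by norm_num, hinvω, inv_pow]))
  have hq2 : q ^ 2 = -1 := (hq.pow (by norm_num) (show 4 = 2 * 2 by norm_num)).eq_neg_one_of_two_right
  have hq0 : q ≠ 0 := hq.ne_zero (by norm_num)
  have hqq : q * q ≠ 1 := by
    rw [← pow_two]; exact hq.pow_ne_one_of_pos_of_lt (by norm_num) (by norm_num)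
  have hqs : ι 0 = q + q⁻¹ := by
    rw [map_zero]
    field_simp
    linear_combination -hq2
  set x := ψ (comp s') with hx
  set t := ψ (comp (0 : F)) with ht
  have hxn : x ^ 73 = 1 := by
    rw [hx, ← map_pow, hψ]
    exact (comp_pow_eq_pm ι h0' h2' hs' 73).2
      (Or.inr (hω'.pow (by norm_num) (show 2 * 73 = 73 * 2 by norm_num)).eq_neg_one_of_two_right)
  have hx1 : x ≠ 1 := by
    rw [hx, Ne, hψ]
    intro e
    rw [← pow_one (comp s')] at e
    rcases (comp_pow_eq_pm ι h0' h2' hs' 1).1 e with e | e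
    · exact hω'.pow_ne_one_of_pos_of_lt (by norm_num) (by norm_num) e
    · refine h2' ?_
      rw [pow_one] at e
      rw [e]
      norm_num
  have ht2 : orderOf t = 2 := by
    refine orderOf_eq_prime ?_ ?_
    · rw [ht, ← map_pow, hψ]
      exact (comp_pow_eq_pm ι hq0 hqq hqs 2).2 (Or.inr hq2)
    · rw [ht, Ne, hψ]
      intro e
      rw [← pow_one (comp (0 : F))] at e
      rcases (comp_pow_eq_pm ι hq0 hqq hqs 1).1 e with e | e
      · exact hq.pow_ne_one_of_pos_of_lt (by norm_num) (by norm_num) e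
      · rw [pow_one] at e
        refine hqq ?_
        rw [e]
        norm_num
  -- an element of order five commuting with `comp s'`
  have htr : ((comp s ^ 5 : SL(2, F)) : Matrix (Fin 2) (Fin 2) F).trace =
      (comp s').1.trace := by
    refine ι.injective ?_
    rw [trace_comp_pow ι h0 h2 hs, ← inv_pow] at *
    rw [← hs']
    simp [comp, Matrix.trace_fin_two]
  have ht4 : ((comp s ^ 5 : SL(2, F)) : Matrix (Fin 2) (Fin 2) F).trace ^ 2 ≠ 4 := by
    intro e
    have e' := congrArg ι e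
    rw [map_pow, trace_comp_pow ι h0 h2 hs, map_ofNat, inv_pow] at e'
    apply h2'
    field_simp at e'
    have : (ω ^ 5 * ω ^ 5 - 1) ^ 2 = 0 := by linear_combination e'
    exact sub_eq_zero.1 (pow_eq_zero_iff two_ne_zero |>.1 this)
  obtain ⟨c, hc⟩ := isConj_iff.1 (CfsgLib.SL2Trace.isConj_of_trace_eq (comp s ^ 5) (comp s') htr ht4)
  set z := ψ (c * comp s ^ 146 * c⁻¹) with hz
  have hz5 : z ^ 5 = 1 := by
    rw [hz, ← map_pow, hψ, conj_pow, ← pow_mul]
    rcases (comp_pow_eq_pm ι h0 h2 hs (146 * 5)).2 (Or.inl hω.pow_eq_one) with e | e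
    · exact Or.inl (by rw [e, mul_one, mul_inv_cancel])
    · exact Or.inr (by rw [e]; simp)
  have hz1 : z ≠ 1 := by
    rw [hz, map_mul, map_mul, map_inv, Ne, conj_eq_one_iff, hψ]
    intro e
    rcases (comp_pow_eq_pm ι h0 h2 hs 146).1 e with e | e
    · exact hω.pow_ne_one_of_pos_of_lt (by norm_num) (by norm_num) e
    · refine hω.pow_ne_one_of_pos_of_lt (l := 292) (by norm_num) (by norm_num) ?_
      rw [show 292 = 146 * 2 by norm_num, pow_mul, e, neg_one_sq]
  have hcom : Commute (comp s') (c * comp s ^ 146 * c⁻¹) := by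
    show comp s' * (c * comp s ^ 146 * c⁻¹) = c * comp s ^ 146 * c⁻¹ * comp s'
    rw [← hc]
    calc c * comp s ^ 5 * c⁻¹ * (c * comp s ^ 146 * c⁻¹) =
          c * (comp s ^ 5 * comp s ^ 146) * c⁻¹ := by group
      _ = c * (comp s ^ 146 * comp s ^ 5) * c⁻¹ := by rw [← pow_add, ← pow_add, add_comm 5]
      _ = _ := by group
  have hxz : x * z = z * x := (hcom.map ψ).eq
  have hz73 : IsPrimitiveRoot ((ω ^ 5) ^ 2) 73 := hω'.pow (by norm_num) rfl
  set ζ : 𝕂ˣ := (hz73.isUnit (by norm_num)).unit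
  have hζ : IsPrimitiveRoot ζ 73 := IsPrimitiveRoot.coe_units_iff.1 hz73
  haveI : Fact (Nat.Prime 73) := ⟨by norm_num⟩
  obtain ⟨g, hgG, hσg, hg⟩ := exists_conj_torus vecOk_u73 vecOk_v73 ⟨rfl, rfl⟩ ⟨rfl, rfl⟩ 73 1
    (pow_one 73).symm seventythree_factor hζ
  obtain ⟨y, A, B, e⟩ := hg x hxn
  have hAB : ¬ (73 ∣ A ∧ 73 ∣ B) := by
    rintro ⟨⟨A', rfl⟩, ⟨B', rfl⟩⟩
    apply hx1
    have h1 : phiK (y * x * y⁻¹) = 1 := by
      rw [e, show cAB ζ uVec73 vVec73 (73 * A') (73 * B') = 1 from funext fun k => ?_]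
      · show g * torHom D 𝕂 1 * g⁻¹ = 1
        rw [map_one, mul_one, mul_inv_cancel]
      · simp only [cAB, Pi.one_apply]
        rw [hζ.zpow_eq_one_iff_dvd]
        exact ⟨(A' : ℤ) * uVec73.getD (k : ℕ) 0 + (B' : ℤ) * vVec73.getD (k : ℕ) 0, by push_cast; ring⟩
    rw [← map_one phiK, phiK_injective.eq_iff] at h1
    exact conj_eq_one_iff.1 h1
  obtain ⟨li, hli, ci, hci, i, sg, hsg, hA, hB⟩ := lines73 hAB
  have hline := lineOk73_all hli
  simp only [lineOk73] at hline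
  split at hline
  · simp only [Bool.and_eq_true] at hline
    have hm : ¬ 73 ∣ sg * (3 ^ i * units73.getD ci 0) := fun hd => hAB
      ⟨(hA.dvd_iff dvd_rfl).2 (dvd_mul_of_dvd_left hd _),
        (hB.dvd_iff dvd_rfl).2 (dvd_mul_of_dvd_left hd _)⟩
    have := eq_one_of_commute_regular hζ hgG hσg hA hB hm hline.1 hline.2 e
      (z := y * z * y⁻¹) (by rw [conj_pow, hz5, mul_one, mul_inv_cancel]) (by
        calc y * x * y⁻¹ * (y * z * y⁻¹) = y * (x * z) * y⁻¹ := by group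
          _ = y * (z * x) * y⁻¹ := by rw [hxz]
          _ = _ := by group)
    exact hz1 (conj_eq_one_iff.1 this)
  simp only [List.all_eq_true, List.mem_range, Bool.and_eq_true, decide_eq_true_eq] at hline
  obtain ⟨fix, hfix, hsumt⟩ := eigSum_involution ht2
  obtain ⟨f, hf, hff⟩ : ∃ f < 2, fix = 136 - 16 * f := by
    rcases hfix with rfl | rfl
    exacts [⟨0, by norm_num, rfl⟩, ⟨1, by norm_num, rfl⟩]
  obtain ⟨hj, htgt⟩ := hline ci hci f hf
  rw [← hff] at htgt
  set j := (choice73.getD li []).getD (2 * ci + f) 0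
  have hinv : invOk 73 (gW (cert73 j)) = true := by
    have := invOk73_eq
    simp only [invOk73, List.all_eq_true, List.mem_range] at this
    exact this j hj
  have hpos := sum_nonneg (ι := ι) (K := 𝕂) (k := 6) hk (m := 2) ![s', 0] ![ω ^ 5, q]
    (Fin.forall_fin_two.2 ⟨h0', hq0⟩) (Fin.forall_fin_two.2 ⟨h2', hqq⟩)
    (Fin.forall_fin_two.2 ⟨hs', hqs⟩)
    ![phiOf ((ω ^ 5) ^ 2) 73 (gW (cert73 j)), phiOf (q ^ 2) 2 (gW (certZ j))] (by
      intro a ha
      rw [Fin.sum_univ_two]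
      simp only [Matrix.cons_val_zero, Matrix.cons_val_one]
      simp only [phiOf_wtVal (n := 73) hω' (by norm_num) _ a ha,
        phiOf_wtVal (n := 2) hq (by norm_num) _ a ha]
      rw [← Finset.sum_add_distrib]
      exact mod_spec (modOk73_all j hj) a ha)
    (adRep.comp ψ) (by rw [MonoidHom.comp_apply, (hψ _).2 (Or.inr negOne_eq), map_one])
  rw [Fin.sum_univ_two] at hpos
  simp only [Matrix.cons_val_zero, Matrix.cons_val_one, MonoidHom.comp_apply] at hpos
  rw [← hx, ← ht, show (ω ^ 5) ^ 2 = (ζ : 𝕂) from (IsUnit.unit_spec _).symm] at hpos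
  have hqp : IsPrimitiveRoot (q ^ 2) 2 := hq.pow (by norm_num) rfl
  have p0 : phiOf (q ^ 2) 2 (gW (certZ j)) 1 = gW (certZ j) 0 := by
    have := phiOf_pow hqp two_pos (gW (certZ j)) 0
    rwa [pow_zero] at this
  have p1 : phiOf (q ^ 2) 2 (gW (certZ j)) (-1) = gW (certZ j) 1 := by
    have := phiOf_pow hqp two_pos (gW (certZ j)) 1
    rw [pow_one, hq2] at this
    rw [hq2]
    exact this
  rw [eigSum_cAB hζ vecOk_u73 vecOk_v73 (by norm_num) _ e, hsumt] at hpos
  rw [hq2] at p0 p1 hpos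
  rw [p0, p1] at hpos
  obtain ⟨hLlen, hLget⟩ := valL_spec (n := 73) (vec_spec vecOk_u73).1 (vec_spec vecOk_v73).1
    (line73 li).1 (line73 li).2
  rw [target_eq hLlen hLget] at htgt
  refine absurd hpos (not_le.2 (lt_of_eq_of_lt ?_ htgt))
  congr 2
  refine Finset.sum_congr rfl fun r _ => ?_
  refine inv_apply (i := i) hinv (by norm_num) hsg ?_
  refine Nat.ModEq.trans ((hA.mul_right _).add (hB.mul_right _)) ?_
  refine congrArg (· % 73) ?_
  ring

/-- A projective special linear group is no subgroup of `E₈(3)`. -/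
theorem isEmpty_of_no [Fintype F] (hno : ∀ ψ : SL(2, F) →* G3, (∀ g, ψ g = 1 ↔ g = 1 ∨ g = -1) → False)
    (H : Subgroup G3) : IsEmpty (↥H ≃* Matrix.ProjectiveSpecialLinearGroup (Fin 2) F) := by
  refine ⟨fun e => hno (H.subtype.comp (e.symm.toMonoidHom.comp
    (QuotientGroup.mk' (Subgroup.center SL(2, F))))) fun g => ?_⟩
  rw [← CfsgLib.SL2Trace.proj_eq_one_iff g]
  show H.subtype (e.symm (CfsgLib.SL2Trace.proj g)) = 1 ↔ _
  rw [Subgroup.coe_subtype, OneMemClass.coe_eq_one, MulEquiv.map_eq_one_iff]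

end CfsgLib.EEightSub
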