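import Cfsg.Agent.EEightSub.Torus

/-!
# Regular elements of order `73` are centralised by no element of order five
-/

set_option autoImplicit false
set_option linter.style.haveILetI false

namespace CfsgLib.EEightSub

open Cfsg.Lie CfsgLib.Chevalley CfsgLib.ChevTorus CfsgLib.LangChev CfsgLib.LangTorus
open scoped MatrixGroups

local notation "D" => chevE8

theorem dot_eq {x y : List ℤ} (hx : x.length = 8) (hy : y.length = 8) :
    (List.zipWith (· * ·) x y).sum = ∑ k : Fin 8, x.getD k 0 * y.getD k 0 := by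
  have e : List.zipWith (· * ·) x y = List.ofFn fun k : Fin 8 => x.getD k 0 * y.getD k 0 :=
    List.ext_getElem (by rw [List.length_zipWith, List.length_ofFn, hx, hy]; rfl) fun i h1 h2 => by
      rw [List.getElem_ofFn, List.getElem_zipWith, List.getD_eq_getElem x 0 (by
        rw [List.length_zipWith] at h1; omega), List.getD_eq_getElem y 0 (by
        rw [List.length_zipWith] at h1; omega)]
  rw [e, List.sum_ofFn]

theorem rows8 : (coTab.all fun l => l.length == 8) = true ∧
    (cwTab.all fun l => l.length == 8) = true ∧ coTab.length = 240 := by decide +kernel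

theorem pairT_eq (r s : Root D) :
    pairT r s = Weyl.rootPair (fun k : Fin chevE8.rank => chevE8.cartan k s) r := by
  obtain ⟨h1, h2, h3⟩ := rows8
  have hr : (r : ℕ) < 240 := r.2
  have hs : (s : ℕ) < 240 := s.2
  have hl : ∀ (T : List (List ℤ)), (T.all fun l => l.length == 8) = true → ∀ i < T.length,
      (T.getD i []).length = 8 := fun T hT i hi => by
    rw [List.getD_eq_getElem T [] hi]
    exact beq_iff_eq.1 (List.all_eq_true.1 hT _ (List.getElem_mem hi))
  rw [pairT, dot_eq (hl _ h1 r (h3.symm ▸ hr)) (hl _ h2 s (cwTab_length.symm ▸ hs)), Weyl.rootPair]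
  refine Finset.sum_congr rfl fun k _ => ?_
  rw [cartan_eq_tab k.2 hs, corootAt_eq_tab, tab, tab, mul_comm]

section General

variable {D₀ : ChevalleyDatum} {C : Weyl.Cert D₀.rank} {M : CoxeterMatrix (Fin D₀.rank)}
  {R : Weyl.RootTable}

theorem rep_cartan (hW : GoodWeyl D₀) (h : Weyl.RootGood C M R) (w : M.Group) (r : Root D₀) :
    (fun k : Fin D₀.rank => D₀.cartan k (h.rootPerm w r)) =
      h.good.rep w fun k : Fin D₀.rank => D₀.cartan k r := by
  induction w using M.toCoxeterSystem.simple_induction_left generalizing r with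
  | one => simp
  | mul_simple_left w i ih =>
    rw [map_mul, map_mul, Equiv.Perm.mul_apply, Module.End.mul_apply, ← ih r,
      CoxeterMatrix.toCoxeterSystem_simple, h.good.rep_simple]
    funext k
    generalize h.rootPerm w r = s
    rw [← wPerm_eq_rootPerm hW h, hW.cartan_wPerm]
    have ha := ((h.simple_facts i).2.2.2) k
    rw [show ((pRoot hW i : Root D₀) : ℕ) = D₀.simple i from rfl]
    show _ = C.reflFun i (fun k => D₀.cartan k s) k
    simp only [Weyl.Cert.reflFun, ha]
    split
    · next h0 => rw [h0]; simp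
    · rfl

/-- A Weyl element fixing the fundamental roots is trivial. -/
theorem eq_one_of_fix_simple (h : Weyl.RootGood C M R) {w : M.Group}
    (hw : ∀ i, h.rootPerm w (h.simpleRoot i) = h.simpleRoot i) : w = 1 := by
  apply h.good.rep_injective
  rw [map_one]
  refine LinearMap.ext fun x => funext fun i => ?_
  rw [Module.End.one_apply, ← h.pair_simple (h.good.rep w x) i, ← h.pair_simple x i]
  conv_rhs => rw [← h.pair_rep w x (h.simpleRoot i), hw]

end General

/-- The Coxeter matrix, indexed by the nodes of the datum. -/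
abbrev M8 : CoxeterMatrix (Fin chevE8.rank) := CoxeterMatrix.E₈

/-- The certificate, indexed by the nodes of the datum. -/
abbrev C8 : Weyl.Cert chevE8.rank := Weyl.certE8

/-- The root action of the Weyl group. -/
theorem good8 : @Weyl.RootGood chevE8 C8 M8 Weyl.reflTableE8 := Weyl.rootE8_good

theorem cartan_root_tab (k : Fin chevE8.rank) (r : Root D) :
    chevE8.cartan k r = tab cwTab r k :=
  cartan_eq_tab k.2 r.2

theorem simTab_getD (j : Fin chevE8.rank) :
    simTab.getD (j : ℕ) 0 = (good8.simpleRoot j : ℕ) := by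
  have hj : (j : ℕ) < 8 := j.2
  rw [simTab_eq, List.getD_eq_getElem?_getD]
  simp [List.getElem?_map, hj]
  rfl

/-- The only Weyl element fixing the values of a regular line is trivial. -/
theorem stabiliser_trivial {L : List ℕ} (hL : L.length = 240) (hs : search (cands L) [] = true)
    (w : M8.Group)
    (hw : ∀ r : Root D, L.getD (good8.rootPerm w r : ℕ) 0 = L.getD (r : ℕ) 0) :
    w = 1 := by
  set img : List ℕ := List.ofFn fun j : Fin chevE8.rank =>
    (good8.rootPerm w (good8.simpleRoot j) : ℕ) with himg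
  have hlen : img.length = 8 := by rw [himg, List.length_ofFn]; rfl
  have hget : ∀ j : Fin chevE8.rank,
      img.getD (j : ℕ) 0 = (good8.rootPerm w (good8.simpleRoot j) : ℕ) :=
    fun j => by rw [List.getD_eq_getElem img 0 (hlen.symm ▸ j.2)]; simp only [himg, List.getElem_ofFn]
  have hc8 : (cands L).length = 8 := by rw [cands, List.length_map]; rfl
  have key := search_spec (cands L) [] img hs (hlen.trans hc8.symm) (fun j hj => ?_) fun j hj => ?_
  · refine eq_one_of_fix_simple good8 fun i => Fin.ext ?_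
    rw [List.nil_append] at key
    rw [← hget i, key, simTab_getD i]
  · have hj8 : j < 8 := hc8 ▸ hj
    rw [hget ⟨j, hj8⟩]
    refine cands_mem hL hj8 (Fin.isLt _) ?_
    rw [hw, simTab_getD ⟨j, hj8⟩]
  · have hj8 : j < 8 := hc8 ▸ hj
    simp only [compat, List.all_eq_true, List.mem_range, beq_iff_eq, List.nil_append,
      List.length_take, hlen]
    intro i hi
    have hij : i < j := by omega
    have ei : (img.take j).getD i 0 = img.getD i 0 := by
      simp [List.getD_eq_getElem?_getD, List.getElem?_take, hij]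
    rw [ei, hget ⟨i, by show i < 8; omega⟩, hget ⟨j, hj8⟩, show min j 8 = j by omega,
      simTab_getD ⟨i, by show i < 8; omega⟩, simTab_getD ⟨j, hj8⟩, pairT_eq, pairT_eq, rep_cartan goodWE8 good8,
      good8.pair_rep]

/-- An element of the torus of the word for 73 fixed by Frobenius and killed by five is trivial. -/
theorem five_trivial {d : Fin chevE8.rank → 𝕂ˣ} (h5 : d ^ 5 = 1)
    (hfix : ∀ r : Root D, torVal d (Sum.inr (((wordFin word73).map (wPerm goodWE8)).prod r)) =
      torVal d (Sum.inr r) ^ 3) : d = 1 := by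
  have hN := fiveOk_eq
  simp only [fiveOk, List.all_eq_true, List.mem_range, decide_eq_true_eq, sum_range_eq] at hN
  set π := ((wordFin word73).map (wPerm goodWE8)).prod
  let M : Fin chevE8.rank → Fin chevE8.rank → ℤ := fun j k =>
    chevE8.cartan k (π (good8.simpleRoot j)) -
      3 * chevE8.cartan k (good8.simpleRoot j)
  have h1 : ∀ j, ∏ k, d k ^ M j k = 1 := fun j => by
    have := hfix (good8.simpleRoot j)
    simp only [torVal, wt_inr] at this
    rw [← mul_inv_eq_one, ← Finset.prod_pow, ← Finset.prod_inv_distrib, ← Finset.prod_mul_distrib]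
      at this
    rw [← this]
    refine Finset.prod_congr rfl fun k _ => ?_
    rw [zpow_sub, mul_comm 3, zpow_mul]
    rfl
  funext i
  have h2 : ∏ k, d k ^ (∑ j : Fin chevE8.rank, tab inv5 i j * M j k) = 1 := by
    have e : ∀ k, d k ^ (∑ j : Fin chevE8.rank, tab inv5 i j * M j k) =
        ∏ j : Fin chevE8.rank, (d k ^ M j k) ^ tab inv5 i j := fun k => by
      rw [← prod_zpow_eq]
      exact Finset.prod_congr rfl fun j _ => by rw [← zpow_mul, mul_comm]
    simp only [e]
    rw [Finset.prod_comm]
    exact Finset.prod_eq_one fun j _ => by rw [Finset.prod_zpow, h1, one_zpow]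
  rw [Pi.one_apply, ← h2, Finset.prod_eq_single i]
  · obtain ⟨q, hq⟩ := Int.modEq_iff_dvd.1 (hN i i.2 i i.2)
    rw [if_pos rfl] at hq
    have e : ∑ j : Fin chevE8.rank, tab inv5 i j * M j i = 1 + 5 * (-q) := by
      have : ∀ j : Fin chevE8.rank, M j i =
          tab cwTab (Weyl.rwalk Weyl.reflTableE8 word73 (simTab.getD j 0)) i -
            3 * tab cwTab (simTab.getD j 0) i := fun j => by
        simp only [M]
        rw [cartan_root_tab, cartan_root_tab, wordPerm_val,
          wordFin_val (vec_spec vecOk_u73).2.1, simTab_getD]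
      simp only [this]
      change _ - (∑ j : Fin chevE8.rank, _) = _ at hq
      linarith
    rw [e, zpow_add, zpow_one, zpow_mul, show (5 : ℤ) = ((5 : ℕ) : ℤ) from rfl, zpow_natCast,
      show d i ^ 5 = 1 from congrFun h5 i, one_zpow, mul_one]
  · intro k _ hk
    obtain ⟨q, hq⟩ := Int.modEq_iff_dvd.1 (hN i i.2 k k.2)
    rw [if_neg fun e => hk (Fin.ext e).symm] at hq
    have e : ∑ j : Fin chevE8.rank, tab inv5 i j * M j k = 5 * (-q) := by
      have : ∀ j : Fin chevE8.rank, M j k =
          tab cwTab (Weyl.rwalk Weyl.reflTableE8 word73 (simTab.getD j 0)) k -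
            3 * tab cwTab (simTab.getD j 0) k := fun j => by
        simp only [M]
        rw [cartan_root_tab, cartan_root_tab, wordPerm_val,
          wordFin_val (vec_spec vecOk_u73).2.1, simTab_getD]
      simp only [this]
      change _ - (∑ j : Fin chevE8.rank, _) = _ at hq
      linarith
    rw [e, zpow_mul, show (5 : ℤ) = ((5 : ℕ) : ℤ) from rfl, zpow_natCast,
      show d k ^ 5 = 1 from congrFun h5 k, one_zpow]
  · simp

/-- **An element of order five centralises no regular element of the torus for 73.** -/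
theorem eq_one_of_commute_regular {ζ : 𝕂ˣ} (hζ : IsPrimitiveRoot ζ 73) {g : GL chevE8.Idx 𝕂}
    (hg : g ∈ chevE8.group 𝕂)
    (hσg : frobGL 𝕂 3 1 g = g * nWord goodWE8 𝕂 (wordFin word73)) {a b m A B : ℕ}
    (hA : A ≡ m * a [MOD 73]) (hB : B ≡ m * b [MOD 73]) (hm : ¬ 73 ∣ m)
    (hreg : (valL 73 uVal73 vVal73 a b).all (fun x => x != 0) = true)
    (hs : search (cands (valL 73 uVal73 vVal73 a b)) [] = true) {x z : G3}
    (hx : phiK x = g * torC D (cAB ζ uVec73 vVec73 A B) * g⁻¹) (hz5 : z ^ 5 = 1)
    (hc : x * z = z * x) : z = 1 := by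
  set L := valL 73 uVal73 vVal73 a b
  obtain ⟨hLlen, hLget⟩ := valL_spec (n := 73) (vec_spec vecOk_u73).1 (vec_spec vecOk_v73).1 a b
  have hmcop : Nat.Coprime 73 m := (Nat.Prime.coprime_iff_not_dvd (by norm_num)).2 hm
  have hval : ∀ r : Root D, torVal (cAB ζ uVec73 vVec73 A B) (Sum.inr r) = ζ ^ (m * L.getD (r : ℕ) 0) := by
    intro r
    rw [torVal_cAB hζ vecOk_u73 vecOk_v73, hLget r r.2]
    have hpow : ∀ p q : ℕ, p ≡ q [MOD 73] → ζ ^ p = ζ ^ q := fun p q e => by
      rw [← Nat.div_add_mod p 73, ← Nat.div_add_mod q 73, e]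
      simp [pow_add, pow_mul, hζ.pow_eq_one]
    refine hpow _ _ (Nat.ModEq.trans ?_ ((Nat.mod_modEq _ _).mul_left m).symm)
    rw [mul_add, ← mul_assoc, ← mul_assoc]
    exact (hA.mul_right _).add (hB.mul_right _)
  have hinj : ∀ p q : ℕ, p < 73 → q < 73 → ζ ^ (m * p) = ζ ^ (m * q) → p = q := by
    intro p q hp hq e
    have h1 : m * p ≡ m * q [MOD 73] := by
      have := pow_eq_pow_iff_modEq.1 e
      rwa [← hζ.eq_orderOf] at this
    exact (h1.cancel_left_of_coprime hmcop).eq_of_lt_of_lt hp hq
  have hlt : ∀ r : ℕ, r < 240 → L.getD r 0 < 73 := fun r hr => by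
    rw [hLget r hr]; exact Nat.mod_lt _ (by norm_num)
  have hne : ∀ r : Root D, torVal (cAB ζ uVec73 vVec73 A B) (Sum.inr r) ≠ 1 := by
    intro r e
    rw [hval, ← pow_zero ζ, ← mul_zero m] at e
    have h0 := hinj _ _ (hlt r r.2) (by norm_num) e
    rw [List.getD_eq_getElem L 0 (hLlen.symm ▸ r.2)] at h0
    have := List.all_eq_true.1 hreg _ (List.getElem_mem (hLlen.symm ▸ r.2 : (r : ℕ) < L.length))
    rw [h0] at this
    simp at this
  set z' := g⁻¹ * phiK z * g with hz'def
  have hz'G : z' ∈ chevE8.group 𝕂 :=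
    mul_mem (mul_mem (inv_mem hg) (map_mem_group goodWE8.good _ z.2)) hg
  have hzt : torC D (cAB ζ uVec73 vVec73 A B) * z' = z' * torC D (cAB ζ uVec73 vVec73 A B) := by
    have hcc := congrArg phiK hc
    rw [map_mul, map_mul, hx] at hcc
    calc _ = g⁻¹ * (g * torC D (cAB ζ uVec73 vVec73 A B) * g⁻¹ * phiK z) * g := by
          rw [hz'def]; group
      _ = _ := by rw [hcc, hz'def]; group
  obtain ⟨w, hm', hwz, hfix⟩ := exists_weyl_of_commute goodWE8 good8 hne hz'G hzt
  have hw1 : w = 1 := stabiliser_trivial hLlen hs w fun r => by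
    have := hfix r
    rw [hval, hval] at this
    exact hinj _ _ (hlt _ (Fin.isLt _)) (hlt _ r.2) this
  have hzd : z' ∈ chevE8.diagonalSubgroup 𝕂 := by
    have : (⟨z', hm'⟩ : ↥(chevE8.monomialSubgroup 𝕂)) ∈ (weylHom goodWE8 good8).ker :=
      hwz.trans hw1
    rw [ker_weylHom] at this
    exact this
  rw [diagonalSubgroup_eq_range goodWE8] at hzd
  obtain ⟨d, hd⟩ := hzd
  change torC D d = z' at hd
  have h5 : d ^ 5 = 1 := by
    refine torC_inj ?_
    rw [← SylowTori.torC_pow, hd, hz'def]
    have : phiK z ^ 5 = 1 := by rw [← map_pow, hz5, map_one]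
    show _ = torHom D 𝕂 1
    rw [map_one]
    calc (g⁻¹ * phiK z * g) ^ 5 = g⁻¹ * phiK z ^ 5 * g := by
          have := conj_pow (i := 5) (a := g⁻¹) (b := phiK z)
          rwa [inv_inv] at this
      _ = 1 := by rw [this]; group
  have hσz : nWord goodWE8 𝕂 (wordFin word73) * frobGL 𝕂 3 1 z' *
      (nWord goodWE8 𝕂 (wordFin word73))⁻¹ = z' := by
    rw [hz'def, map_mul, map_mul, map_inv, frob_phiK, hσg]
    group
  rw [← hd, torC_conj_iff] at hσz
  have hd1 := five_trivial h5 hσz
  refine phiK_injective ?_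
  rw [map_one]
  have hz1 : z' = 1 := by rw [← hd, hd1]; exact map_one (torHom D 𝕂)
  calc phiK z = g * z' * g⁻¹ := by rw [hz'def]; group
    _ = 1 := by rw [hz1]; group

end CfsgLib.EEightSub
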