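import Cfsg.Agent.EEightSub.Tensor
import Mathlib.FieldTheory.Finite.Basic
import Mathlib.LinearAlgebra.Eigenspace.Triangularizable
import Mathlib.LinearAlgebra.Charpoly.ToMatrix
import Mathlib.LinearAlgebra.Determinant
import Mathlib.LinearAlgebra.Dual.Lemmas
import Mathlib.RingTheory.RootsOfUnity.PrimitiveRoots

/-!
# Irreducible representations of `SL₂(3^k)` in characteristic three and eigenvalue bounds

Every irreducible representation has a highest weight vector generating it under the lower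
unipotent group and is determined by its weight and the scalar of `N w`; so it is a twisted
tensor product. A function on eigenvalues with non-negative sums on the twisted tensor products
has non-negative sums on every representation.
-/

set_option autoImplicit false
set_option linter.unusedSectionVars false

namespace CfsgLib.EEightSub

open Matrix

section Unipotent

variable {K V : Type*} [Field K] [AddCommGroup V] [Module K V] {p : ℕ} [Fact p.Prime] [CharP K p]
  {A : Type*} [AddCommGroup A]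

/-- A representation of a group of exponent `p` in characteristic `p` fixes a non-zero vector of
every invariant non-zero subspace. -/
theorem exists_fixed_vec [Finite A] (ρ : A → Module.End K V) (h0 : ρ 0 = 1)
    (hadd : ∀ s t, ρ (s + t) = ρ s * ρ t) (hp : ∀ a : A, p • a = 0) {W : Submodule K V}
    (hW : W ≠ ⊥) (hinv : ∀ a, ∀ x ∈ W, ρ a x ∈ W) : ∃ x ∈ W, x ≠ 0 ∧ ∀ a, ρ a x = x := by
  classical
  haveI := Fintype.ofFinite A
  suffices h : ∀ S : Finset A, ∃ x ∈ W, x ≠ 0 ∧ ∀ a ∈ S, ρ a x = x by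
    obtain ⟨x, h1, h2, h3⟩ := h Finset.univ
    exact ⟨x, h1, h2, fun a => h3 a (Finset.mem_univ a)⟩
  intro S
  induction S using Finset.induction_on with
  | empty =>
    obtain ⟨x, hx, hx0⟩ := Submodule.exists_mem_ne_zero_of_ne_bot hW
    exact ⟨x, hx, hx0, by simp⟩
  | insert s S _ ih =>
    obtain ⟨x, hxW, hx0, hxS⟩ := ih
    have hcomm : ∀ a b, ρ a * ρ b = ρ b * ρ a := fun a b => by rw [← hadd, ← hadd, add_comm]
    have hpow : ρ s ^ p = 1 := by
      have e : ∀ n : ℕ, ρ s ^ n = ρ (n • s) := fun n => by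
        induction n with
        | zero => simp [h0]
        | succ n ih => rw [pow_succ, ih, ← hadd, succ_nsmul]
      rw [e, hp, h0]
    haveI : Nontrivial (Module.End K V) := ⟨⟨1, 0, fun e => hx0 (by
      simpa using congrArg (fun f : Module.End K V => f x) e)⟩⟩
    haveI : CharP (Module.End K V) p :=
      charP_of_injective_algebraMap (RingHom.injective (algebraMap K (Module.End K V))) p
    have hnil : (ρ s - 1) ^ p = 0 := by
      rw [sub_pow_char_of_commute p (Commute.one_right (ρ s)), hpow, one_pow, sub_self]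
    let y : ℕ → V := fun n => ((ρ s - 1) ^ n) x
    have hyp : y p = 0 := by simp [y, hnil]
    have hgood : ∀ n, y n ∈ W ∧ ∀ a ∈ S, ρ a (y n) = y n := by
      intro n
      induction n with
      | zero => exact ⟨by simpa [y] using hxW, fun a ha => by simpa [y] using hxS a ha⟩
      | succ n ih =>
        have e : y (n + 1) = ρ s (y n) - y n := by simp [y, pow_succ']
        refine ⟨e ▸ W.sub_mem (hinv _ _ ih.1) ih.1, fun a ha => ?_⟩
        rw [e, map_sub, ih.2 a ha]
        have := congrArg (fun f : Module.End K V => f (y n)) (hcomm a s)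
        simp only [Module.End.mul_apply] at this
        rw [this, ih.2 a ha]
    have hex : ∃ n, y n = 0 := ⟨p, hyp⟩
    obtain ⟨m, hm⟩ : ∃ m, Nat.find hex = m + 1 := Nat.exists_eq_succ_of_ne_zero fun h =>
      hx0 (by simpa [y, h] using Nat.find_spec hex)
    refine ⟨y m, (hgood m).1, Nat.find_min hex (by omega), ?_⟩
    intro a ha
    rcases Finset.mem_insert.1 ha with rfl | ha
    · have : y (m + 1) = 0 := hm ▸ Nat.find_spec hex
      simp only [y, pow_succ', Module.End.mul_apply, LinearMap.sub_apply, Module.End.one_apply,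
        sub_eq_zero] at this
      exact this
    · exact (hgood m).2 a ha

end Unipotent

variable {F : Type*} [Field F] [Fintype F]

/-- Upper unipotent elements. -/
def uEl (t : F) : Matrix.SpecialLinearGroup (Fin 2) F := ⟨!![1, t; 0, 1], by simp [Matrix.det_fin_two]⟩

/-- Lower unipotent elements. -/
def lEl (t : F) : Matrix.SpecialLinearGroup (Fin 2) F := ⟨!![1, 0; t, 1], by simp [Matrix.det_fin_two]⟩

/-- The Weyl element. -/
def wEl : Matrix.SpecialLinearGroup (Fin 2) F := ⟨!![0, -1; 1, 0], by simp [Matrix.det_fin_two]⟩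

/-- Diagonal elements. -/
def hEl (a : Fˣ) : Matrix.SpecialLinearGroup (Fin 2) F := ⟨!![(a : F), 0; 0, (a⁻¹ : Fˣ)], by simp [Matrix.det_fin_two]⟩

/-- The element `-1`. -/
def negOne : Matrix.SpecialLinearGroup (Fin 2) F := hEl (-1)

/-- The element of trace `s`. -/
def comp (s : F) : Matrix.SpecialLinearGroup (Fin 2) F := ⟨!![0, -1; 1, s], by simp [Matrix.det_fin_two]⟩

theorem uEl_add (s t : F) : uEl (s + t) = uEl s * uEl t := by
  apply Subtype.ext
  simp only [Matrix.SpecialLinearGroup.coe_mul]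
  ext i j
  fin_cases i <;> fin_cases j <;>
    simp [uEl, add_comm, Matrix.mul_apply, Fin.sum_univ_two]

theorem lEl_add (s t : F) : lEl (s + t) = lEl s * lEl t := by
  apply Subtype.ext
  simp only [Matrix.SpecialLinearGroup.coe_mul]
  ext i j
  fin_cases i <;> fin_cases j <;>
    simp [lEl, Matrix.mul_apply, Fin.sum_univ_two]

theorem uEl_zero : uEl (0 : F) = 1 := by
  apply Subtype.ext
  ext i j
  fin_cases i <;> fin_cases j <;>
    simp [uEl, Matrix.one_fin_two, Matrix.mul_apply, Fin.sum_univ_two]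

theorem lEl_zero : lEl (0 : F) = 1 := by
  apply Subtype.ext
  ext i j
  fin_cases i <;> fin_cases j <;>
    simp [lEl, Matrix.one_fin_two, Matrix.mul_apply, Fin.sum_univ_two]

theorem hEl_mul (a b : Fˣ) : hEl (a * b) = hEl a * hEl b := by
  apply Subtype.ext
  simp only [Matrix.SpecialLinearGroup.coe_mul]
  ext i j
  fin_cases i <;> fin_cases j <;>
    simp [hEl, mul_comm, Matrix.mul_apply, Fin.sum_univ_two]

theorem hEl_uEl (a : Fˣ) (s : F) : hEl a * uEl s = uEl ((a : F) * a * s) * hEl a := by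
  apply Subtype.ext
  simp only [Matrix.SpecialLinearGroup.coe_mul]
  ext i j
  fin_cases i <;> fin_cases j <;>
    simp [hEl, uEl, Matrix.mul_apply, Fin.sum_univ_two] <;> field_simp

theorem hEl_wEl (a : Fˣ) : hEl a * wEl = wEl * hEl a⁻¹ := by
  apply Subtype.ext
  simp only [Matrix.SpecialLinearGroup.coe_mul]
  ext i j
  fin_cases i <;> fin_cases j <;>
    simp [hEl, wEl, Matrix.mul_apply, Fin.sum_univ_two]

theorem wEl_lEl (t : F) : wEl * lEl t = uEl (-t) * wEl := by
  apply Subtype.ext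
  simp only [Matrix.SpecialLinearGroup.coe_mul]
  ext i j
  fin_cases i <;> fin_cases j <;>
    simp [wEl, lEl, uEl, Matrix.mul_apply, Fin.sum_univ_two]

theorem lEl_wEl (t : F) : lEl t * wEl = wEl * uEl (-t) := by
  apply Subtype.ext
  simp only [Matrix.SpecialLinearGroup.coe_mul]
  ext i j
  fin_cases i <;> fin_cases j <;>
    simp [wEl, lEl, uEl, Matrix.mul_apply, Fin.sum_univ_two]

theorem wEl_sq : wEl * wEl = (negOne : Matrix.SpecialLinearGroup (Fin 2) F) := by
  apply Subtype.ext
  simp only [Matrix.SpecialLinearGroup.coe_mul]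
  ext i j
  fin_cases i <;> fin_cases j <;>
    simp [wEl, negOne, hEl, Units.val_neg, Matrix.mul_apply, Fin.sum_univ_two]

theorem lEl_eq (t : Fˣ) :
    lEl (t : F) = uEl ((t⁻¹ : Fˣ) : F) * wEl * hEl t * uEl ((t⁻¹ : Fˣ) : F) := by
  apply Subtype.ext
  simp only [Matrix.SpecialLinearGroup.coe_mul]
  ext i j
  fin_cases i <;> fin_cases j <;>
    simp [hEl, wEl, lEl, uEl, Matrix.mul_apply, Fin.sum_univ_two]

theorem generation {P : Matrix.SpecialLinearGroup (Fin 2) F → Prop} (h1 : P 1) (hl : ∀ t, P (lEl t)) (hw : P wEl)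
    (hm : ∀ a b, P a → P b → P (a * b)) (g : Matrix.SpecialLinearGroup (Fin 2) F) : P g := by
  have hn : P negOne := wEl_sq (F := F) ▸ hm _ _ hw hw
  have hu : ∀ t, P (uEl t) := fun t => by
    have e : uEl t = wEl * lEl (-t) * (wEl * negOne) := by
      apply Subtype.ext
      simp only [Matrix.SpecialLinearGroup.coe_mul]
      ext i j
      fin_cases i <;> fin_cases j <;>
        simp [wEl, lEl, uEl, negOne, hEl, Units.val_neg, Matrix.mul_apply, Fin.sum_univ_two]
    exact e ▸ hm _ _ (hm _ _ hw (hl _)) (hm _ _ hw hn)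
  have big : ∀ g : Matrix.SpecialLinearGroup (Fin 2) F, g.1 1 0 ≠ 0 → P g := fun g hc => by
    have hdet : g.1 0 0 * g.1 1 1 - g.1 0 1 * g.1 1 0 = 1 := by
      rw [← Matrix.det_fin_two]; exact g.2
    have e : g = uEl ((g.1 0 0 - 1) / g.1 1 0) * lEl (g.1 1 0) *
        uEl ((g.1 1 1 - 1) / g.1 1 0) := by
      apply Subtype.ext
      simp only [Matrix.SpecialLinearGroup.coe_mul]
      ext i j
      fin_cases i <;> fin_cases j <;> simp [uEl, lEl, Matrix.mul_apply, Fin.sum_univ_two] <;>
        field_simp <;> first | ring1 | linear_combination hdet | linear_combination -hdet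
    rw [e]
    exact hm _ _ (hm _ _ (hu _) (hl _)) (hu _)
  by_cases hc : g.1 1 0 = 0
  · have h2 : P (lEl 1 * g) := by
      refine big _ ?_
      have hdet : g.1 0 0 * g.1 1 1 - g.1 0 1 * g.1 1 0 = 1 := by
        rw [← Matrix.det_fin_two]; exact g.2
      intro e
      rw [Matrix.SpecialLinearGroup.coe_mul] at e
      simp [lEl, Matrix.mul_apply, Fin.sum_univ_two, hc] at e
      rw [e, hc] at hdet
      simp at hdet
    have e : g = lEl (-1) * (lEl 1 * g) := by
      rw [← mul_assoc, ← lEl_add, neg_add_cancel, lEl_zero, one_mul]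
    rw [e]
    exact hm _ _ (hl _) h2
  · exact big g hc

variable {K : Type*} [Field K] (ι : F →+* K) {V : Type*} [AddCommGroup V] [Module K V]
variable (ρ : Matrix.SpecialLinearGroup (Fin 2) F →* Module.End K V)

/-- A highest weight vector of weight `r` on which `N w` is the scalar `c`. -/
structure HighVec (v : V) (r : ℕ) (c : K) : Prop where
  u_fix : ∀ t : F, ρ (uEl t) v = v
  h_eig : ∀ a : Fˣ, ρ (hEl a) v = ι (a : F) ^ r • v
  nw : ∑ s : F, ρ (uEl s) (ρ wEl v) = c • v
  neg : ρ negOne = 1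

/-- The span of the orbit under the lower unipotent group. -/
def cyc (v : V) : Submodule K V := Submodule.span K (Set.range fun t : F => ρ (lEl t) v)

variable {ι ρ}

theorem HighVec.lower {v : V} {r : ℕ} {c : K} (h : HighVec ι ρ v r c) (t : Fˣ) :
    ρ (lEl (t : F)) v = ι (t : F) ^ r • ρ (uEl (t⁻¹ : Fˣ)) (ρ wEl v) := by
  rw [lEl_eq, map_mul, map_mul, map_mul, Module.End.mul_apply, Module.End.mul_apply,
    Module.End.mul_apply, h.u_fix, h.h_eig, map_smul, map_smul]

theorem HighVec.mem_cyc {v : V} {r : ℕ} {c : K} (h : HighVec ι ρ v r c) (g : Matrix.SpecialLinearGroup (Fin 2) F) :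
    ∀ x ∈ cyc ρ v, ρ g x ∈ cyc ρ v := by
  have hf : ∀ t : F, ρ (lEl t) v ∈ cyc ρ v := fun t => Submodule.subset_span ⟨t, rfl⟩
  have hv : v ∈ cyc ρ v := by simpa [lEl_zero] using hf 0
  have hus : ∀ t : Fˣ, ρ (uEl (t : F)) (ρ wEl v) ∈ cyc ρ v := fun t => by
    have e := h.lower t⁻¹
    rw [inv_inv] at e
    have h0 : ι ((t⁻¹ : Fˣ) : F) ^ r ≠ 0 :=
      pow_ne_zero _ (by rw [map_ne_zero]; exact Units.ne_zero _)
    rw [(inv_smul_eq_iff₀ h0).2 e |>.symm]
    exact Submodule.smul_mem _ _ (hf _)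
  have hwv : ρ wEl v ∈ cyc ρ v := by
    classical
    have e := h.nw
    rw [← Finset.add_sum_erase _ _ (Finset.mem_univ (0 : F)), uEl_zero, map_one,
      Module.End.one_apply] at e
    rw [eq_sub_of_add_eq e]
    refine Submodule.sub_mem _ (Submodule.smul_mem _ _ hv) (Submodule.sum_mem _ fun s hs => ?_)
    exact hus (Units.mk0 s (Finset.ne_of_mem_erase hs))
  refine generation (P := fun g => ∀ x ∈ cyc ρ v, ρ g x ∈ cyc ρ v) ?_ ?_ ?_ ?_ g
  · intro x hx; simpa using hx
  · intro s x hx
    induction hx using Submodule.span_induction with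
    | mem y hy =>
      obtain ⟨t, rfl⟩ := hy
      simpa [← Module.End.mul_apply, ← map_mul, ← lEl_add] using hf (s + t)
    | zero => simp
    | add y z _ _ hy hz => rw [map_add]; exact Submodule.add_mem _ hy hz
    | smul a y _ hy => rw [map_smul]; exact Submodule.smul_mem _ _ hy
  · intro x hx
    induction hx using Submodule.span_induction with
    | mem y hy =>
      obtain ⟨t, rfl⟩ := hy
      rw [← Module.End.mul_apply, ← map_mul, wEl_lEl, map_mul, Module.End.mul_apply]
      by_cases ht : t = 0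
      · simpa [ht, uEl_zero] using hwv
      · exact hus (Units.mk0 (-t) (neg_ne_zero.2 ht))
    | zero => simp
    | add y z _ _ hy hz => rw [map_add]; exact Submodule.add_mem _ hy hz
    | smul a y _ hy => rw [map_smul]; exact Submodule.smul_mem _ _ hy
  · intro a b ha hb x hx
    rw [map_mul]
    exact ha _ (hb x hx)

variable (ι ρ)

/-- Irreducibility. -/
def Irred : Prop :=
  Nontrivial V ∧ ∀ W : Submodule K V, (∀ g, ∀ x ∈ W, ρ g x ∈ W) → W = ⊥ ∨ W = ⊤

variable {ι ρ}

theorem HighVec.cyc_eq_top (hirr : Irred ρ) {v : V} {r : ℕ} {c : K} (h : HighVec ι ρ v r c)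
    (hv : v ≠ 0) : cyc ρ v = ⊤ :=
  (hirr.2 _ h.mem_cyc).resolve_left fun e => hv <| by
    have : v ∈ cyc ρ v := by simpa [lEl_zero, cyc] using
      (Submodule.subset_span ⟨0, rfl⟩ : ρ (lEl (0 : F)) v ∈ cyc ρ v)
    rw [e] at this
    exact (Submodule.mem_bot K).1 this

variable [CharP F 3] [CharP K 3]

/-- Every irreducible representation has a highest weight vector. -/
theorem exists_highVec [IsAlgClosed K] [FiniteDimensional K V] (hirr : Irred ρ)
    (hneg : ρ negOne = 1) :
    ∃ (v : V) (r : ℕ) (c : K), v ≠ 0 ∧ HighVec ι ρ v r c ∧ r < Fintype.card F - 1 ∧ Even r ∧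
      (c = 0 ∨ (r = 0 ∧ c = -1)) := by
  classical
  haveI := hirr.1
  haveI : Fact (Nat.Prime 3) := ⟨Nat.prime_three⟩
  set q := Fintype.card F with hq
  have hq1 : 1 < q := Fintype.one_lt_card
  have hqK : (q : K) = 0 := by
    obtain ⟨n, -, e⟩ := FiniteField.card F 3
    rw [hq, e, Nat.cast_pow, show ((3 : ℕ) : K) = 0 from CharP.cast_eq_zero K 3,
      zero_pow n.pos.ne']
  let X : Submodule K V :=
    { carrier := {x | ∀ t, ρ (uEl t) x = x}
      zero_mem' := fun t => map_zero _
      add_mem' := fun {x y} hx hy t => by rw [map_add, hx t, hy t]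
      smul_mem' := fun a x hx t => by rw [map_smul, hx t] }
  have hX : X ≠ ⊥ := by
    obtain ⟨x, -, hx, hfix⟩ := exists_fixed_vec (p := 3) (fun t : F => ρ (uEl t))
      (by rw [uEl_zero, map_one]) (fun s t => by rw [uEl_add, map_mul])
      (fun a => by rw [nsmul_eq_mul, CharP.cast_eq_zero, zero_mul])
      (W := ⊤) top_ne_bot (fun _ _ _ => trivial)
    exact fun e => hx ((Submodule.mem_bot K).1 (e ▸ (show x ∈ X from hfix)))
  obtain ⟨a₀, ha₀⟩ := IsCyclic.exists_generator (α := Fˣ)
  have hXh : ∀ x ∈ X, ρ (hEl a₀) x ∈ X := fun x hx t => by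
    have : hEl a₀ * uEl (t / ((a₀ : F) * a₀)) = uEl t * hEl a₀ := by
      rw [hEl_uEl]
      congr 2
      field_simp
    rw [← Module.End.mul_apply, ← map_mul, ← this, map_mul, Module.End.mul_apply, hx]
  haveI : Nontrivial X := (Submodule.nontrivial_iff_ne_bot).2 hX
  obtain ⟨lam, hlam⟩ := Module.End.exists_eigenvalue ((ρ (hEl a₀)).restrict hXh)
  obtain ⟨⟨v, hvX⟩, hv⟩ := hlam.exists_hasEigenvector
  have hv0 : v ≠ 0 := fun e => hv.2 (Subtype.ext e)
  have hve : ρ (hEl a₀) v = lam • v := congrArg Subtype.val hv.apply_eq_smul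
  have hone : ρ (hEl (1 : Fˣ)) = 1 := by
    rw [show hEl (1 : Fˣ) = 1 from Subtype.ext (by simp [hEl, Matrix.one_fin_two]), map_one]
  have hpw : ∀ m : ℕ, ρ (hEl (a₀ ^ m)) v = lam ^ m • v := fun m => by
    induction m with
    | zero => simp [hone]
    | succ m ih =>
      rw [pow_succ, hEl_mul, map_mul, Module.End.mul_apply, hve, map_smul, ih, smul_smul, pow_succ']
  have hordF : orderOf a₀ = q - 1 := by
    rw [orderOf_eq_card_of_forall_mem_zpowers ha₀, Nat.card_units, Nat.card_eq_fintype_card]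
  have hlamq : lam ^ (q - 1) = 1 := by
    have e := hpw (q - 1)
    rw [← hordF, pow_orderOf_eq_one, hone, Module.End.one_apply, hordF] at e
    exact smul_left_injective K hv0 (by simpa using e.symm)
  haveI : NeZero (q - 1) := ⟨by omega⟩
  have hprim : IsPrimitiveRoot (ι (a₀ : F)) (q - 1) :=
    (hordF ▸ IsPrimitiveRoot.coe_units_iff.2 (IsPrimitiveRoot.orderOf a₀)).map_of_injective
      ι.injective
  obtain ⟨r, hr, hrlam⟩ := hprim.eq_pow_of_pow_eq_one hlamq
  have heig : ∀ a : Fˣ, ρ (hEl a) v = ι (a : F) ^ r • v := fun a => by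
    obtain ⟨m, rfl⟩ := (Submonoid.mem_powers_iff _ _).1 (mem_powers_iff_mem_zpowers.2 (ha₀ a))
    rw [hpw, Units.val_pow_eq_pow_val, map_pow, ← pow_mul, ← hrlam, ← pow_mul, mul_comm]
  have heven : Even r := by
    have e := heig (-1)
    rw [show hEl (-1) = negOne from rfl, hneg, Module.End.one_apply, Units.val_neg, Units.val_one,
      map_neg, map_one] at e
    have e1 : (-1 : K) ^ r = 1 := smul_left_injective K hv0 (by simpa using e.symm)
    rcases Nat.even_or_odd r with h | h
    · exact h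
    · exfalso
      rw [h.neg_one_pow] at e1
      have h2 : ((2 : ℕ) : K) = 0 := by
        calc ((2 : ℕ) : K) = 1 - (-1) := by norm_num
          _ = 0 := by rw [e1, sub_self]
      rw [CharP.cast_eq_zero_iff K 3] at h2
      omega
  -- the operator `N w`
  set τ : V → V := fun x => ∑ s : F, ρ (uEl s) (ρ wEl x) with hτ
  have hτsmul : ∀ (a : K) x, τ (a • x) = a • τ x := fun a x => by
    simp only [hτ, map_smul, Finset.smul_sum]
  have hτfix : ∀ x t, ρ (uEl t) (τ x) = τ x := fun x t => by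
    simp only [hτ, map_sum]
    simp only [← Module.End.mul_apply, ← mul_assoc, ← map_mul, ← uEl_add]
    exact Fintype.sum_equiv (Equiv.addLeft t) _ _ fun s => rfl
  have hN : ∀ x t, ∑ s : F, ρ (uEl s) (ρ (uEl t) x) = ∑ s : F, ρ (uEl s) x := fun x t => by
    simp only [← Module.End.mul_apply, ← map_mul, ← uEl_add]
    exact Fintype.sum_equiv (Equiv.addRight t) _ _ fun s => rfl
  have hsum : ∑ t : Fˣ, ι (t : F) ^ r = if r = 0 then -1 else 0 := by
    have e := FiniteField.sum_pow_units F r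
    calc ∑ t : Fˣ, ι (t : F) ^ r = ι (∑ t : Fˣ, (t ^ r : F)) := by simp [map_sum]
      _ = _ := by
        rw [e, ← hq]
        by_cases h : r = 0
        · simp [h]
        · rw [if_neg fun hd => h (Nat.eq_zero_of_dvd_of_lt hd hr), if_neg h, map_zero]
  have hττ : τ (τ v) = (∑ t : Fˣ, ι (t : F) ^ r) • τ v := by
    have e1 : ρ wEl (τ v) = ∑ s : F, ρ (lEl s) v := by
      simp only [hτ, map_sum]
      refine Fintype.sum_equiv (Equiv.neg F) _ _ fun s => ?_
      have e : wEl * uEl s * wEl = lEl (-s) * (negOne : Matrix.SpecialLinearGroup (Fin 2) F) := by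
        rw [← neg_neg s, ← lEl_wEl, mul_assoc, wEl_sq, neg_neg]
      rw [← Module.End.mul_apply, ← Module.End.mul_apply, ← map_mul, ← map_mul, e, map_mul, hneg,
        mul_one]
      rfl
    simp only [hτ] at e1 ⊢
    rw [e1]
    simp only [map_sum]
    rw [Finset.sum_comm, ← Finset.add_sum_erase _ _ (Finset.mem_univ (0 : F)), lEl_zero, map_one,
      Module.End.one_apply, Finset.sum_congr rfl fun s _ => hvX s, Finset.sum_const,
      Finset.card_univ, ← hq, ← Nat.cast_smul_eq_nsmul K, hqK, zero_smul, zero_add, Finset.sum_smul]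
    refine Finset.sum_bij' (fun t ht => Units.mk0 t (Finset.ne_of_mem_erase ht))
      (fun t _ => (t : F)) (fun _ _ => Finset.mem_univ _) (fun t _ => by simp) (fun t _ => rfl)
      (fun t _ => Units.ext rfl) ?_
    intro t ht
    set u := Units.mk0 t (Finset.ne_of_mem_erase ht) with hu
    have e3 : ρ (lEl t) v = ι t ^ r • ρ (uEl ((u⁻¹ : Fˣ) : F)) (ρ wEl v) := by
      rw [show t = (u : F) from rfl, lEl_eq, map_mul, map_mul, map_mul, Module.End.mul_apply,
        Module.End.mul_apply, Module.End.mul_apply, hvX, heig, map_smul, map_smul]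
    simp only [e3, map_smul, ← Finset.smul_sum, hN]
    rfl
  by_cases hz : τ v = 0
  · exact ⟨v, r, 0, hv0, ⟨hvX, heig, by simpa using hz, hneg⟩, hr, heven, Or.inl rfl⟩
  refine ⟨τ v, (q - 1 - r) % (q - 1), if r = 0 then -1 else 0, hz,
    ⟨hτfix v, fun a => ?_, by rw [← hsum]; exact hττ, hneg⟩, Nat.mod_lt _ (by omega), ?_, ?_⟩
  · have hinv : ι (a : F) ^ ((q - 1 - r) % (q - 1)) = ι ((a⁻¹ : Fˣ) : F) ^ r := by
      have hq1' : ι (a : F) ^ (q - 1) = 1 := by
        rw [← map_pow, FiniteField.pow_card_sub_one_eq_one _ a.ne_zero, map_one]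
      have e := Nat.mod_add_div (q - 1 - r) (q - 1)
      have e2 : ι (a : F) ^ (q - 1 - r) = ι (a : F) ^ ((q - 1 - r) % (q - 1)) := by
        conv_lhs => rw [← e, pow_add, pow_mul, hq1', one_pow, mul_one]
      have h0 : ι (a : F) ^ r ≠ 0 := pow_ne_zero _ (by simp)
      rw [← e2, Units.val_inv_eq_inv_val, map_inv₀, inv_pow]
      refine eq_inv_of_mul_eq_one_left ?_
      rw [← pow_add, Nat.sub_add_cancel hr.le, hq1']
    rw [hinv, ← hτsmul, hτ]
    simp only [map_sum]
    refine Fintype.sum_equiv (Equiv.mulLeft₀ ((a : F) * a) (by simp)) _ _ fun s => ?_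
    rw [← heig, ← Module.End.mul_apply, ← Module.End.mul_apply, ← Module.End.mul_apply,
      ← Module.End.mul_apply, ← map_mul, ← map_mul, ← map_mul, ← map_mul, hEl_uEl,
      mul_assoc, hEl_wEl]
    simp [mul_assoc]
  · rcases Nat.eq_zero_or_pos r with h | h
    · simp [h]
    · rw [Nat.mod_eq_of_lt (by omega)]
      have hodd : Odd q := by
        obtain ⟨n, -, e⟩ := FiniteField.card F 3
        rw [hq, e]; exact Odd.pow ⟨1, rfl⟩
      rw [Nat.even_iff] at heven ⊢
      rw [Nat.odd_iff] at hodd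
      omega
  · rcases Nat.eq_zero_or_pos r with h | h
    · right; simp [h]
    · left; rw [if_neg h.ne']

variable {V' : Type*} [AddCommGroup V'] [Module K V'] {ρ' : Matrix.SpecialLinearGroup (Fin 2) F →* Module.End K V'}

/-- A functional fixed by the lower unipotent group. -/
theorem exists_functional [FiniteDimensional K V] [Nontrivial V] :
    ∃ φ : Module.Dual K V, φ ≠ 0 ∧ ∀ t x, φ (ρ (lEl t) x) = φ x := by
  haveI : Fact (Nat.Prime 3) := ⟨Nat.prime_three⟩
  haveI : Nontrivial (Module.Dual K V) := (Module.nontrivial_dual_iff K).2 inferInstance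
  obtain ⟨φ, -, hφ, hfix⟩ := exists_fixed_vec (p := 3) (fun t : F => (ρ (lEl t)).dualMap)
    (by rw [lEl_zero, map_one]; exact LinearMap.dualMap_id)
    (fun s t => by rw [add_comm, lEl_add, map_mul]; exact (LinearMap.dualMap_comp_dualMap _ _).symm)
    (fun a => by rw [nsmul_eq_mul, CharP.cast_eq_zero, zero_mul])
    (W := ⊤) top_ne_bot (fun _ _ _ => trivial)
  exact ⟨φ, hφ, fun t x => LinearMap.congr_fun (hfix t) x⟩

/-- **Irreducible representations are determined by the weight and the scalar.** -/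
theorem exists_equiv [FiniteDimensional K V] [FiniteDimensional K V'] (hirr : Irred ρ)
    (hirr' : Irred ρ') {v : V} {v' : V'} {r : ℕ} {c : K} (h : HighVec ι ρ v r c) (hv : v ≠ 0)
    (h' : HighVec ι ρ' v' r c) (hv' : v' ≠ 0) :
    ∃ e : V ≃ₗ[K] V', ∀ g x, e (ρ g x) = ρ' g (e x) := by
  let π : Matrix.SpecialLinearGroup (Fin 2) F →* Module.End K (V × V') :=
    { toFun := fun g => (ρ g).prodMap (ρ' g)
      map_one' := by simp [LinearMap.prodMap_one]
      map_mul' := fun a b => by rw [map_mul, map_mul]; rfl }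
  have hz : HighVec ι π (v, v') r c := ⟨fun t => Prod.ext (h.u_fix t) (h'.u_fix t),
    fun a => Prod.ext (h.h_eig a) (h'.h_eig a),
    Prod.ext (by rw [Prod.fst_sum]; exact h.nw) (by rw [Prod.snd_sum]; exact h'.nw),
    LinearMap.ext fun x => Prod.ext (LinearMap.congr_fun h.neg x.1) (LinearMap.congr_fun h'.neg x.2)⟩
  set W := cyc π (v, v') with hWdef
  have hW : ∀ g, ∀ x ∈ W, π g x ∈ W := hz.mem_cyc
  have hzW : (v, v') ∈ W := by
    have h0 : π (lEl 0) (v, v') ∈ W := Submodule.subset_span ⟨0, rfl⟩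
    simpa [lEl_zero] using h0
  haveI := hirr.1
  haveI := hirr'.1
  obtain ⟨φ, hφ, hφl⟩ := exists_functional (ρ := ρ)
  obtain ⟨φ', hφ', hφl'⟩ := exists_functional (ρ := ρ')
  have hline : ∀ x ∈ W, ∃ a : K, φ x.1 = a * φ v ∧ φ' x.2 = a * φ' v' := by
    intro x hx
    induction hx using Submodule.span_induction with
    | mem y hy =>
      obtain ⟨t, rfl⟩ := hy
      exact ⟨1, by rw [one_mul]; exact hφl t v, by rw [one_mul]; exact hφl' t v'⟩
    | zero => exact ⟨0, by simp, by simp⟩
    | add y z _ _ hy hz =>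
      obtain ⟨a, h1, h2⟩ := hy
      obtain ⟨b, h3, h4⟩ := hz
      exact ⟨a + b, by simp [h1, h3, add_mul], by simp [h2, h4, add_mul]⟩
    | smul d y _ hy =>
      obtain ⟨a, h1, h2⟩ := hy
      exact ⟨d * a, by simp [h1, mul_assoc], by simp [h2, mul_assoc]⟩
  -- a vector in one factor gives everything
  have hfst : ∀ x : V, (x, (0 : V')) ∈ W → x = 0 := by
    intro x hx
    by_contra hx0
    let W₁ : Submodule K V := W.comap (LinearMap.inl K V V')
    have hW₁ : W₁ = ⊤ := (hirr.2 W₁ fun g y hy => by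
      have := hW g _ hy
      simpa [W₁, π, LinearMap.inl_apply] using this).resolve_left fun e =>
        hx0 ((Submodule.mem_bot K).1 (e ▸ (show x ∈ W₁ from hx)))
    obtain ⟨y, hy⟩ : ∃ y, φ y ≠ 0 := by
      by_contra hc; push Not at hc; exact hφ (LinearMap.ext hc)
    obtain ⟨a, ha1, ha2⟩ := hline _ (show (y, (0 : V')) ∈ W from
      (hW₁ ▸ Submodule.mem_top : y ∈ W₁))
    have hv0 : φ' v' ≠ 0 := fun e => hφ' <| LinearMap.ext fun z => by
      have hzmem : z ∈ cyc ρ' v' := by rw [h'.cyc_eq_top hirr' hv']; trivial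
      rw [LinearMap.zero_apply]
      refine Submodule.span_induction (p := fun z _ => φ' z = 0) ?_ (map_zero _)
        (fun a b _ _ ha hb => by rw [map_add, ha, hb, add_zero])
        (fun a b _ hb => by rw [map_smul, hb, smul_zero]) hzmem
      rintro _ ⟨t, rfl⟩
      rw [hφl', e]
    simp only [map_zero] at ha2
    rcases mul_eq_zero.1 ha2.symm with e | e
    · simp [e] at ha1; exact hy ha1
    · exact hv0 e
  have hsnd : ∀ y : V', ((0 : V), y) ∈ W → y = 0 := by
    intro x hx
    by_contra hx0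
    let W₁ : Submodule K V' := W.comap (LinearMap.inr K V V')
    have hW₁ : W₁ = ⊤ := (hirr'.2 W₁ fun g y hy => by
      have := hW g _ hy
      simpa [W₁, π, LinearMap.inr_apply] using this).resolve_left fun e =>
        hx0 ((Submodule.mem_bot K).1 (e ▸ (show x ∈ W₁ from hx)))
    obtain ⟨y, hy⟩ : ∃ y, φ' y ≠ 0 := by
      by_contra hc; push Not at hc; exact hφ' (LinearMap.ext hc)
    obtain ⟨a, ha1, ha2⟩ := hline _ (show ((0 : V), y) ∈ W from
      (hW₁ ▸ Submodule.mem_top : y ∈ W₁))
    have hv0 : φ v ≠ 0 := fun e => hφ <| LinearMap.ext fun z => by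
      have hzmem : z ∈ cyc ρ v := by rw [h.cyc_eq_top hirr hv]; trivial
      rw [LinearMap.zero_apply]
      refine Submodule.span_induction (p := fun z _ => φ z = 0) ?_ (map_zero _)
        (fun a b _ _ ha hb => by rw [map_add, ha, hb, add_zero])
        (fun a b _ hb => by rw [map_smul, hb, smul_zero]) hzmem
      rintro _ ⟨t, rfl⟩
      rw [hφl, e]
    simp only [map_zero] at ha1
    rcases mul_eq_zero.1 ha1.symm with e | e
    · simp [e] at ha2; exact hy ha2
    · exact hv0 e
  let p₁ : W →ₗ[K] V := (LinearMap.fst K V V').comp W.subtype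
  let p₂ : W →ₗ[K] V' := (LinearMap.snd K V V').comp W.subtype
  have hi₁ : Function.Injective p₁ := by
    rw [← LinearMap.ker_eq_bot, Submodule.eq_bot_iff]
    rintro ⟨⟨x, y⟩, hxy⟩ hk
    have hx : x = 0 := LinearMap.mem_ker.1 hk
    subst hx
    have hy0 := hsnd y hxy
    subst hy0
    rfl
  have hi₂ : Function.Injective p₂ := by
    rw [← LinearMap.ker_eq_bot, Submodule.eq_bot_iff]
    rintro ⟨⟨x, y⟩, hxy⟩ hk
    have hy : y = 0 := LinearMap.mem_ker.1 hk
    subst hy
    have hx0 := hfst x hxy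
    subst hx0
    rfl
  have hs₁ : Function.Surjective p₁ := by
    rw [← LinearMap.range_eq_top]
    refine (hirr.2 _ ?_).resolve_left fun e => hv <| (Submodule.mem_bot K).1 <|
      e ▸ (show v ∈ LinearMap.range p₁ from ⟨⟨_, hzW⟩, rfl⟩)
    rintro g _ ⟨⟨x, hx⟩, rfl⟩
    exact ⟨⟨_, hW g x hx⟩, rfl⟩
  have hs₂ : Function.Surjective p₂ := by
    rw [← LinearMap.range_eq_top]
    refine (hirr'.2 _ ?_).resolve_left fun e => hv' <| (Submodule.mem_bot K).1 <|
      e ▸ (show v' ∈ LinearMap.range p₂ from ⟨⟨_, hzW⟩, rfl⟩)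
    rintro g _ ⟨⟨x, hx⟩, rfl⟩
    exact ⟨⟨_, hW g x hx⟩, rfl⟩
  set e₁ := LinearEquiv.ofBijective p₁ ⟨hi₁, hs₁⟩ with he₁
  refine ⟨e₁.symm.trans (LinearEquiv.ofBijective p₂ ⟨hi₂, hs₂⟩), fun g x => ?_⟩
  obtain ⟨⟨z, hz'⟩, rfl⟩ := hs₁ x
  have e : ρ g (p₁ ⟨z, hz'⟩) = p₁ ⟨π g z, hW g z hz'⟩ := rfl
  have h₁ : ∀ a : W, e₁.symm (p₁ a) = a := fun a => e₁.symm_apply_apply a
  rw [e, LinearEquiv.trans_apply, LinearEquiv.trans_apply, h₁, h₁]
  rfl

end CfsgLib.EEightSub
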