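import Cfsg.Agent.EEightSub.Checks
import Cfsg.Agent.EEightSub.Bound
import Mathlib.RingTheory.RootsOfUnity.PrimitiveRoots
import Mathlib.Data.Int.ModEq

/-!
# The meaning of the kernel checks
-/

set_option autoImplicit false

namespace CfsgLib.EEightSub

open Cfsg.Lie

theorem sum_range_eq {M : Type*} [AddCommMonoid M] (n : ℕ) (f : ℕ → M) :
    ((List.range n).map f).sum = ∑ i : Fin n, f i := by
  rw [← List.map_coe_finRange_eq_range, List.map_map, ← List.ofFn_eq_map, List.sum_ofFn]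
  rfl

theorem vec_spec {n : ℕ} {word : List ℕ} {u : List ℤ} {U : List ℕ}
    (h : vecOk n word u U = true) :
    U.length = 240 ∧ (∀ i ∈ word, i < 8) ∧
    ∀ r < 240, ((U.getD r 0 : ℤ) ≡ ∑ k : Fin 8, chevE8.cartan k r * u.getD k 0 [ZMOD n]) ∧
      3 * U.getD r 0 ≡ U.getD (Weyl.rwalk Weyl.reflTableE8 word r) 0 [MOD n] := by
  simp only [vecOk, Bool.and_eq_true, beq_iff_eq, List.all_eq_true, List.mem_range,
    decide_eq_true_eq] at h
  refine ⟨h.1.1, h.1.2, fun r hr => ⟨?_, (h.2 r hr).2⟩⟩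
  have := (h.2 r hr).1
  rw [sum_range_eq] at this
  simpa [cartan_eq_tab (Fin.isLt _) hr] using this

theorem inv_spec {n : ℕ} {g : ℕ → ℤ} (h : invOk n g = true) (hn : 0 < n) :
    ∀ x : ℕ, (∀ i : ℕ, g (3 ^ i * x % n) = g (x % n)) ∧ g ((n - 1) * x % n) = g (x % n) := by
  simp only [invOk, List.all_eq_true, List.mem_range, Bool.and_eq_true, beq_iff_eq] at h
  intro x
  refine ⟨fun i => ?_, ?_⟩
  · induction i with
    | zero => simp
    | succ i ih =>
      rw [← ih, ← (h _ (Nat.mod_lt (3 ^ i * x) hn)).1, Nat.mul_mod_mod, pow_succ', mul_assoc]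
  · rw [← (h _ (Nat.mod_lt x hn)).2]
    congr 1
    apply Nat.ModEq.add_right_cancel' (x % n)
    show ((n - 1) * x + x % n) % n = (n - x % n + x % n) % n
    rw [Nat.sub_add_cancel (Nat.mod_lt x hn).le, Nat.mod_self, Nat.add_mod_mod,
      show (n - 1) * x + x = n * x by
        conv_rhs => rw [show n = (n - 1) + 1 from by omega, add_mul, one_mul],
      Nat.mul_mod_right]

/-- A function of the index of a root of unity. -/
noncomputable def phiOf {K : Type*} [Monoid K] (ζ : K) (n : ℕ) (g : ℕ → ℤ) (x : K) : ℤ :=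
  open scoped Classical in if h : ∃ i < n, ζ ^ i = x then g (Nat.find h) else 0

theorem phiOf_pow {K : Type*} [Field K] {ζ : K} {n : ℕ} (hζ : IsPrimitiveRoot ζ n) (hn : 0 < n)
    (g : ℕ → ℤ) (i : ℕ) : phiOf ζ n g (ζ ^ i) = g (i % n) := by
  classical
  have hmod : ζ ^ i = ζ ^ (i % n) := by
    conv_lhs => rw [← Nat.div_add_mod i n, pow_add, pow_mul, hζ.pow_eq_one, one_pow, one_mul]
  have hex : ∃ j < n, ζ ^ j = ζ ^ i := ⟨i % n, Nat.mod_lt _ hn, hmod.symm⟩
  rw [phiOf, dif_pos hex]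
  obtain ⟨h1, h2⟩ := Nat.find_spec hex
  congr 1
  exact hζ.pow_inj h1 (Nat.mod_lt _ hn) (h2.trans hmod)

theorem sumMon_eq (g : ℕ → ℕ → ℤ) : ∀ {k : ℕ} (a : Fin k → Fin 3) (P Q t : ℕ),
    sumMon g (List.ofFn fun i => (a i).1) P Q t = ∑ b : Mon a,
      g (P + t * ∑ i, ((a i).1 - (b i).1) * 3 ^ (i : ℕ)) (Q + t * ∑ i, (b i).1 * 3 ^ (i : ℕ))
  | 0, a, P, Q, t => by simp [sumMon]
  | k + 1, a, P, Q, t => by
    rw [List.ofFn_succ, sumMon, sum_range_eq,
      ← (Fin.consEquiv fun i => Fin ((a i).1 + 1)).sum_comp, Fintype.sum_prod_type]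
    refine Finset.sum_congr rfl fun b _ => ?_
    rw [sumMon_eq g (fun i => a i.succ)]
    refine Finset.sum_congr rfl fun c _ => ?_
    have e : ∀ f : Fin (k + 1) → ℕ, t * ∑ i, f i * 3 ^ (i : ℕ) =
        f 0 * t + 3 * t * ∑ i : Fin k, f i.succ * 3 ^ (i : ℕ) := fun f => by
      rw [Fin.sum_univ_succ, mul_add, Finset.mul_sum, Finset.mul_sum]
      simp only [Fin.val_zero, pow_zero, mul_one, Fin.val_succ, pow_succ]
      rw [mul_comm]
      congr 1
      exact Finset.sum_congr rfl fun i _ => by ring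
    rw [e, e]
    simp [Fin.consEquiv, add_assoc]

theorem allA_spec : ∀ {k : ℕ} {chk : List ℕ → Bool}, allA k chk = true →
    ∀ l : List ℕ, l.length = k → (∀ x ∈ l, x < 3) → chk l = true
  | 0, chk, h, l, hl, _ => by rw [List.length_eq_zero_iff.1 hl]; exact h
  | k + 1, chk, h, [], hl, _ => by simp at hl
  | k + 1, chk, h, x :: l, hl, hx => by
    simp only [allA, List.all_eq_true, List.mem_range] at h
    exact allA_spec (h x (hx x List.mem_cons_self)) l (by simpa using hl)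
      fun y hy => hx y (List.mem_cons_of_mem _ hy)

theorem mod_spec {k : ℕ} {g : ℕ → ℕ → ℤ} (h : modOk k g = true) (a : Fin k → Fin 3)
    (ha : Even (∑ i, (a i).1)) :
    0 ≤ ∑ b : Mon a, g (∑ i, ((a i).1 - (b i).1) * 3 ^ (i : ℕ)) (∑ i, (b i).1 * 3 ^ (i : ℕ)) := by
  have h2 := allA_spec h (List.ofFn fun i => (a i).1) (by simp) fun x hx => by
    obtain ⟨i, rfl⟩ := List.mem_ofFn.1 hx
    exact (a i).2
  simp only [Bool.or_eq_true, decide_eq_true_eq, List.sum_ofFn, Nat.even_iff.1 ha,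
    zero_ne_one, false_or, sumMon_eq, zero_add, one_mul] at h2
  exact h2

theorem phiOf_wtVal {K : Type*} [Field K] {ω : K} {n : ℕ} (hω : IsPrimitiveRoot ω (2 * n))
    (hn : 0 < n) (N : ℕ) {k : ℕ} (a : Fin k → Fin 3) (ha : Even (∑ i, (a i).1)) (b : Mon a) :
    phiOf (ω ^ 2) n (gW N) (wtVal ω a b) =
      gExp n N (∑ i, ((a i).1 - (b i).1) * 3 ^ (i : ℕ)) (∑ i, (b i).1 * 3 ^ (i : ℕ)) := by
  rw [wtVal]
  set P := ∑ i, ((a i).1 - (b i).1) * 3 ^ (i : ℕ) with hP
  set Q := ∑ i, (b i).1 * 3 ^ (i : ℕ) with hQ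
  have hPQ : (P + Q) % 2 = 0 := by
    have e : P + Q = high a := by
      rw [hP, hQ, ← Finset.sum_add_distrib, high]
      refine Finset.sum_congr rfl fun i _ => ?_
      rw [← add_mul, Nat.sub_add_cancel (by omega)]
    rw [e]
    exact Nat.even_iff.1 (even_high.2 ha)
  have h0 : ω ≠ 0 := hω.ne_zero (by omega)
  have hi : ω⁻¹ = ω ^ (2 * n - 1) := by
    refine inv_eq_of_mul_eq_one_left ?_
    rw [← pow_succ, Nat.sub_add_cancel (by omega), hω.pow_eq_one]
  have hpar : (P + (2 * n - 1) * Q) % (2 * n) % 2 = 0 := by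
    rw [Nat.mod_mod_of_dvd _ (dvd_mul_right 2 n), Nat.add_mod, Nat.mul_mod,
      show (2 * n - 1) % 2 = 1 by omega, one_mul, Nat.mod_mod, ← Nat.add_mod]
    exact hPQ
  have hlt : (P + (2 * n - 1) * Q) % (2 * n) / 2 < n := by
    have := Nat.mod_lt (P + (2 * n - 1) * Q) (show 0 < 2 * n by omega)
    omega
  have hv : ω ^ P * ω⁻¹ ^ Q = (ω ^ 2) ^ ((P + (2 * n - 1) * Q) % (2 * n) / 2) := by
    rw [hi, ← pow_mul, ← pow_add, ← pow_mul, Nat.two_mul_div_two_of_even (Nat.even_iff.2 hpar)]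
    conv_lhs => rw [← Nat.div_add_mod (P + (2 * n - 1) * Q) (2 * n), pow_add, pow_mul,
      hω.pow_eq_one, one_pow, one_mul]
  rw [hv, phiOf_pow (hω.pow (by omega) rfl) hn, Nat.mod_eq_of_lt hlt]
  rfl

theorem valL_spec {n : ℕ} {U V : List ℕ} (hU : U.length = 240) (hV : V.length = 240) (a b : ℕ) :
    (valL n U V a b).length = 240 ∧
      ∀ r < 240, (valL n U V a b).getD r 0 = (a * U.getD r 0 + b * V.getD r 0) % n := by
  have hl : (valL n U V a b).length = 240 := by simp [valL, hU, hV]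
  refine ⟨hl, fun r hr => ?_⟩
  rw [List.getD_eq_getElem _ 0 (by omega : r < _), List.getD_eq_getElem U 0 (by omega),
    List.getD_eq_getElem V 0 (by omega)]
  simp only [valL, List.getElem_zipWith]

theorem target_eq {n N c : ℕ} {L : List ℕ} {F : ℕ → ℕ} (hlen : L.length = 240)
    (hL : ∀ r < 240, L.getD r 0 = F r) :
    target n N c L = 8 * gW N 0 + ∑ r : Fin 240, gW N (c * F r % n) := by
  rw [target]
  congr 1
  have e : L = List.ofFn fun r : Fin 240 => F r := List.ext_getElem (by rw [List.length_ofFn, hlen]) fun i h1 h2 => by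
    rw [List.getElem_ofFn, ← List.getD_eq_getElem L 0 h1]
    exact hL i (by omega)
  rw [e, List.map_ofFn, List.sum_ofFn]
  rfl

/-- A multiplier is up to sign and a power of three one of the representatives. -/
theorem unit_spec {n p k : ℕ} {units : List ℕ} (h : unitOk n p k units = true) (hn : 0 < n)
    (hpn : p ∣ n) {x : ℕ} (hx : ¬ p ∣ x) :
    (∃ y, x * y ≡ 1 [MOD n]) ∧ ∃ ci < units.length, ∃ i s, (s = 1 ∨ s = n - 1) ∧
      x ≡ s * (3 ^ i * units.getD ci 0) [MOD n] := by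
  simp only [unitOk, List.all_eq_true, List.mem_range, Bool.or_eq_true, Bool.and_eq_true,
    beq_iff_eq, List.any_eq_true] at h
  rcases h (x % n) (Nat.mod_lt _ hn) with h0 | ⟨⟨y, -, hy⟩, c, hc, i, -, hi⟩
  · exact absurd (Nat.dvd_of_mod_eq_zero (by rwa [Nat.mod_mod_of_dvd _ hpn] at h0)) hx
  · refine ⟨⟨y, ?_⟩, ?_⟩
    · rw [Nat.mul_mod, Nat.mod_mod, ← Nat.mul_mod] at hy
      show x * y % n = 1 % n
      rcases Nat.lt_or_ge 1 n with h1 | h1
      · rw [hy, Nat.mod_eq_of_lt h1]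
      · interval_cases n
        simp [Nat.mod_one]
    · obtain ⟨ci, hci, rfl⟩ := List.getElem_of_mem hc
      refine ⟨ci, hci, i, ?_⟩
      rw [List.getD_eq_getElem units 0 hci]
      rcases hi with e | e
      · exact ⟨1, Or.inl rfl, by rw [one_mul]; exact e⟩
      · exact ⟨n - 1, Or.inr rfl, e⟩

/-- An invariant function sees only the representative of the multiplier. -/
theorem inv_apply {n : ℕ} {g : ℕ → ℤ} (h : invOk n g = true) (hn : 0 < n)
    {i s c x y : ℕ} (hs : s = 1 ∨ s = n - 1) (hx : x ≡ s * (3 ^ i * c) * y [MOD n]) :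
    g (x % n) = g (c * (y % n) % n) := by
  rw [show x % n = _ from hx, Nat.mul_mod_mod, show s * (3 ^ i * c) * y = s * (3 ^ i * (c * y)) by ring]
  rcases hs with rfl | rfl
  · rw [one_mul, (inv_spec h hn _).1]
  · rw [(inv_spec h hn _).2, (inv_spec h hn _).1]

theorem lines121 {A B : ℕ} (h : ¬ (11 ∣ A ∧ 11 ∣ B)) : ∃ li < 132, ∃ ci < 11, ∃ i s,
    (s = 1 ∨ s = 121 - 1) ∧ A ≡ s * (3 ^ i * units121.getD ci 0) * (line121 li).1 [MOD 121] ∧
      B ≡ s * (3 ^ i * units121.getD ci 0) * (line121 li).2 [MOD 121] := by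
  have hlen : units121.length = 11 := rfl
  by_cases hA : 11 ∣ A
  · have hB : ¬ 11 ∣ B := fun e => h ⟨hA, e⟩
    obtain ⟨⟨y, hy⟩, ci, hci, i, s, hs, he⟩ := unit_spec unitOk121 (by norm_num) ⟨11, rfl⟩ hB
    obtain ⟨a, ha⟩ : 11 ∣ A * y % 121 := (Nat.dvd_mod_iff ⟨11, rfl⟩).2 (dvd_mul_of_dvd_left hA y)
    have hb := Nat.mod_lt (A * y) (show 121 > 0 by norm_num)
    refine ⟨121 + a, by omega, ci, hlen ▸ hci, i, s, hs, ?_, ?_⟩
    · rw [line121, if_neg (by omega), Nat.add_sub_cancel_left]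
      refine Nat.ModEq.trans ?_ (he.mul_right _)
      show A ≡ B * (11 * a) [MOD 121]
      rw [← ha]
      refine Nat.ModEq.trans ?_ ((Nat.mod_modEq _ _).mul_left B).symm
      rw [show B * (A * y) = B * y * A by ring]
      simpa using (hy.mul_right A).symm
    · rw [line121, if_neg (by omega), mul_one]
      exact he
  · obtain ⟨⟨y, hy⟩, ci, hci, i, s, hs, he⟩ := unit_spec unitOk121 (by norm_num) ⟨11, rfl⟩ hA
    have hb := Nat.mod_lt (B * y) (show 121 > 0 by norm_num)
    refine ⟨B * y % 121, by omega, ci, hlen ▸ hci, i, s, hs, ?_, ?_⟩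
    · rw [line121, if_pos hb, mul_one]
      exact he
    · rw [line121, if_pos hb]
      refine Nat.ModEq.trans ?_ (he.mul_right _)
      refine Nat.ModEq.trans ?_ ((Nat.mod_modEq _ _).mul_left A).symm
      rw [show A * (B * y) = A * y * B by ring]
      simpa using (hy.mul_right B).symm

theorem lines73 {A B : ℕ} (h : ¬ (73 ∣ A ∧ 73 ∣ B)) : ∃ li < 74, ∃ ci < 6, ∃ i s,
    (s = 1 ∨ s = 73 - 1) ∧ A ≡ s * (3 ^ i * units73.getD ci 0) * (line73 li).1 [MOD 73] ∧
      B ≡ s * (3 ^ i * units73.getD ci 0) * (line73 li).2 [MOD 73] := by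
  have hlen : units73.length = 6 := rfl
  by_cases hA : 73 ∣ A
  · have hB : ¬ 73 ∣ B := fun e => h ⟨hA, e⟩
    obtain ⟨-, ci, hci, i, s, hs, he⟩ := unit_spec unitOk73 (by norm_num) dvd_rfl hB
    refine ⟨73, by omega, ci, hlen ▸ hci, i, s, hs, ?_, ?_⟩
    · rw [line73, if_neg (by omega), mul_zero]
      exact Nat.modEq_zero_iff_dvd.2 hA
    · rw [line73, if_neg (by omega), mul_one]
      exact he
  · obtain ⟨⟨y, hy⟩, ci, hci, i, s, hs, he⟩ := unit_spec unitOk73 (by norm_num) dvd_rfl hA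
    have hb := Nat.mod_lt (B * y) (show 73 > 0 by norm_num)
    refine ⟨B * y % 73, by omega, ci, hlen ▸ hci, i, s, hs, ?_, ?_⟩
    · rw [line73, if_pos hb, mul_one]
      exact he
    · rw [line73, if_pos hb]
      refine Nat.ModEq.trans ?_ (he.mul_right _)
      refine Nat.ModEq.trans ?_ ((Nat.mod_modEq _ _).mul_left A).symm
      rw [show A * (B * y) = A * y * B by ring]
      simpa using (hy.mul_right B).symm

theorem cands_mem {L : List ℕ} (hL : L.length = 240) {j r : ℕ} (hj : j < 8) (hr : r < 240)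
    (he : L.getD r 0 = L.getD (simTab.getD j 0) 0) : r ∈ (cands L).getD j [] := by
  have hl : simTab.length = 8 := rfl
  simp only [cands, List.getD_eq_getElem?_getD, List.getElem?_map,
    List.getElem?_eq_getElem (show j < simTab.length by omega), Option.map_some, Option.getD_some,
    List.mem_filterMap]
  refine ⟨(r, L.getD r 0), List.mem_iff_getElem.2 ⟨r, by simp [hL, hr], ?_⟩, ?_⟩
  · simp [List.getD_eq_getElem?_getD, List.getElem?_eq_getElem (show r < L.length by omega)]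
  · simp only [List.getD_eq_getElem?_getD,
      List.getElem?_eq_getElem (show j < simTab.length by omega), Option.getD_some] at he ⊢
    simp [he]

theorem search_spec : ∀ (cs : List (List ℕ)) (acc rest : List ℕ), search cs acc = true →
    rest.length = cs.length → (∀ j < cs.length, rest.getD j 0 ∈ cs.getD j []) →
    (∀ j < cs.length, compat (acc ++ rest.take j) (rest.getD j 0) = true) → acc ++ rest = simTab
  | [], acc, rest, h, hl, _, _ => by
    rw [List.length_eq_zero_iff.1 hl, List.append_nil]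
    simpa [search] using h
  | c :: cs, acc, [], _, hl, _, _ => by simp at hl
  | c :: cs, acc, x :: rest, h, hl, hm, hc => by
    simp only [search, List.all_eq_true, Bool.or_eq_true, Bool.not_eq_true'] at h
    have hx : x ∈ c := by simpa using hm 0 (by simp)
    have hcx : compat acc x = true := by simpa using hc 0 (by simp)
    have h1 : search cs (acc ++ [x]) = true := (h x hx).resolve_left (by simp [hcx])
    rw [List.append_cons]
    refine search_spec cs _ rest h1 (by simpa using hl) (fun j hj => ?_) fun j hj => ?_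
    · simpa using hm (j + 1) (by simp; omega)
    · simpa using hc (j + 1) (by simp; omega)

end CfsgLib.EEightSub
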