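import Mathlib.LinearAlgebra.Matrix.SpecialLinearGroup
import Mathlib.Algebra.CharP.Frobenius
import Mathlib.LinearAlgebra.Matrix.Charpoly.Eigs
import Mathlib.LinearAlgebra.Matrix.ToLin
import Mathlib.Algebra.Polynomial.Roots

/-!
# Twisted tensor products of the small symmetric powers in characteristic three

For digits `a i ≤ 2` the tensor product over `i` of the symmetric powers of degree `a i` of the
natural module twisted by the `i`-th power of Frobenius, as an explicit matrix representation.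
-/

set_option autoImplicit false

namespace CfsgLib.EEightSub

open scoped Matrix

variable {K : Type*} [CommRing K]

/-- The entries of the action on binary forms of degree at most two. -/
def symE (g : Matrix (Fin 2) (Fin 2) K) : ℕ → ℕ → ℕ → K
  | 1, 0, 0 => g 0 0
  | 1, 0, 1 => g 0 1
  | 1, 1, 0 => g 1 0
  | 1, 1, 1 => g 1 1
  | 2, 0, 0 => g 0 0 * g 0 0
  | 2, 0, 1 => g 0 0 * g 0 1
  | 2, 0, 2 => g 0 1 * g 0 1
  | 2, 1, 0 => 2 * (g 0 0 * g 1 0)
  | 2, 1, 1 => g 0 0 * g 1 1 + g 0 1 * g 1 0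
  | 2, 1, 2 => 2 * (g 0 1 * g 1 1)
  | 2, 2, 0 => g 1 0 * g 1 0
  | 2, 2, 1 => g 1 0 * g 1 1
  | 2, 2, 2 => g 1 1 * g 1 1
  | _, _, _ => 1

/-- The action on binary forms of degree `n ≤ 2`. -/
def symP (n : Fin 3) (g : Matrix (Fin 2) (Fin 2) K) : Matrix (Fin (n.1 + 1)) (Fin (n.1 + 1)) K :=
  Matrix.of fun i j => symE g n i j

theorem symP_one (n : Fin 3) : symP n (1 : Matrix (Fin 2) (Fin 2) K) = 1 := by
  fin_cases n <;> (ext i j; fin_cases i <;> fin_cases j <;> simp [symP, symE])

theorem symP_mul (n : Fin 3) (g g' : Matrix (Fin 2) (Fin 2) K) :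
    symP n (g * g') = symP n g * symP n g' := by
  fin_cases n <;>
    (ext i j; fin_cases i <;> fin_cases j <;>
      simp [symP, symE, Matrix.mul_apply, Fin.sum_univ_succ] <;> ring)

/-- Binomial coefficients `C(n, j)` for `n ≤ 2`. -/
def binom2 (n j : ℕ) : K := if n = 2 ∧ j = 1 then 2 else 1

variable {k : ℕ}

/-- The basis of monomials. -/
abbrev Mon (a : Fin k → Fin 3) : Type := (i : Fin k) → Fin ((a i).1 + 1)

/-- The exponent of a monomial. -/
def expo {a : Fin k → Fin 3} (b : Mon a) : ℕ := ∑ i, (b i).1 * 3 ^ (i : ℕ)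

/-- The highest weight. -/
def high (a : Fin k → Fin 3) : ℕ := ∑ i, (a i).1 * 3 ^ (i : ℕ)

theorem sum_lt_pow : ∀ {k : ℕ} (d : Fin k → ℕ), (∀ i, d i ≤ 2) →
    ∑ i, d i * 3 ^ (i : ℕ) < 3 ^ k
  | 0, _, _ => by simp
  | k + 1, d, h => by
    rw [Fin.sum_univ_castSucc]
    have h1 := sum_lt_pow (fun i : Fin k => d i.castSucc) fun i => h _
    have h2 := h (Fin.last k)
    simp only [Fin.val_castSucc, Fin.val_last, pow_succ]
    have h3 := Nat.mul_le_mul_right (3 ^ k) h2
    omega

theorem digits_unique : ∀ {k : ℕ} (d d' : Fin k → ℕ), (∀ i, d i ≤ 2) → (∀ i, d' i ≤ 2) →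
    ∑ i, d i * 3 ^ (i : ℕ) = ∑ i, d' i * 3 ^ (i : ℕ) → d = d'
  | 0, _, _, _, _, _ => funext fun i => i.elim0
  | k + 1, d, d', h, h', e => by
    have hs : ∀ d : Fin (k + 1) → ℕ,
        ∑ i, d i * 3 ^ (i : ℕ) = d 0 + 3 * ∑ i : Fin k, d i.succ * 3 ^ (i : ℕ) := fun d => by
      rw [Fin.sum_univ_succ, Finset.mul_sum]
      simp [pow_succ, mul_comm, mul_left_comm]
    rw [hs, hs] at e
    have := h 0; have := h' 0
    have e0 : d 0 = d' 0 := by omega
    have es := digits_unique (fun i : Fin k => d i.succ) (fun i => d' i.succ) (fun i => h _)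
      (fun i => h' _) (by omega)
    funext i
    refine Fin.cases e0 (fun j => congrFun es j) i

theorem expo_injective (a : Fin k → Fin 3) : Function.Injective (expo (a := a)) := by
  intro b b' e
  have := digits_unique (fun i => (b i).1) (fun i => (b' i).1)
    (fun i => by have := (b i).2; have := (a i).2; omega)
    (fun i => by have := (b' i).2; have := (a i).2; omega) e
  exact funext fun i => Fin.ext (congrFun this i)

theorem expo_lt {a : Fin k → Fin 3} (b : Mon a) : expo b < 3 ^ k :=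
  sum_lt_pow _ fun i => by have := (b i).2; have := (a i).2; omega

variable [CharP K 3]

/-- The twisted tensor product. -/
noncomputable def tens (a : Fin k → Fin 3) : Matrix (Fin 2) (Fin 2) K →* Matrix (Mon a) (Mon a) K where
  toFun g := Matrix.of fun b b' => ∏ i, symP (a i) (g.map (iterateFrobenius K 3 (i : ℕ))) (b i) (b' i)
  map_one' := by
    ext b b'
    simp only [Matrix.of_apply, Matrix.map_one _ (map_zero _) (map_one _), symP_one, Matrix.one_apply]
    by_cases e : b = b'
    · simp [e]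
    · rw [if_neg e]
      obtain ⟨i, hi⟩ := Function.ne_iff.1 e
      exact Finset.prod_eq_zero (Finset.mem_univ i) (if_neg hi)
  map_mul' g g' := by
    ext b b'
    simp only [Matrix.of_apply, Matrix.map_mul, symP_mul, Matrix.mul_apply]
    rw [Finset.prod_univ_sum, Fintype.piFinset_univ]
    exact Finset.sum_congr rfl fun x _ => Finset.prod_mul_distrib

theorem tens_apply (a : Fin k → Fin 3) (g : Matrix (Fin 2) (Fin 2) K) (b b' : Mon a) :
    tens a g b b' = ∏ i : Fin k, symE (g.map (iterateFrobenius K 3 (i : ℕ))) (a i).1 (b i).1 (b' i).1 := rfl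

theorem tens_diag (a : Fin k → Fin 3) (x y : K) :
    tens a !![x, 0; 0, y] = Matrix.diagonal fun b : Mon a =>
      ∏ i, x ^ ((((a i).1 - (b i).1) * 3 ^ (i : ℕ))) * y ^ ((b i).1 * 3 ^ (i : ℕ)) := by
  ext b b'
  rw [tens_apply, Matrix.diagonal_apply]
  have h : ∀ (n : Fin 3) (X Y : K) (c c' : Fin (n.1 + 1)),
      symE !![X, 0; 0, Y] n c c' = if c = c' then X ^ (n.1 - c.1) * Y ^ c.1 else 0 := by
    intro n X Y c c'
    fin_cases n <;> fin_cases c <;> fin_cases c' <;> simp [symE, pow_two]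
  have hm : ∀ i : Fin k, (!![x, 0; 0, y]).map (iterateFrobenius K 3 (i : ℕ)) =
      !![x ^ 3 ^ (i : ℕ), 0; 0, y ^ 3 ^ (i : ℕ)] := fun i => by
    ext r s; fin_cases r <;> fin_cases s <;> simp [iterateFrobenius_def]
  simp only [hm, h]
  by_cases e : b = b'
  · subst e
    simp only [if_true]
    refine Finset.prod_congr rfl fun i _ => ?_
    rw [← pow_mul, ← pow_mul, mul_comm (3 ^ (i : ℕ)), mul_comm (3 ^ (i : ℕ))]
  · rw [if_neg e]
    obtain ⟨i, hi⟩ := Function.ne_iff.1 e
    exact Finset.prod_eq_zero (Finset.mem_univ i) (if_neg hi)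

/-- The lower unipotent matrices applied to the highest monomial. -/
theorem tens_lower_col (a : Fin k → Fin 3) (t : K) (b : Mon a) :
    tens a !![1, 0; t, 1] b (fun _ => 0) = (∏ i, binom2 (a i).1 (b i).1) * t ^ expo b := by
  rw [tens_apply, expo, ← Finset.prod_pow_eq_pow_sum, ← Finset.prod_mul_distrib]
  refine Finset.prod_congr rfl fun i _ => ?_
  rw [show (!![1, 0; t, 1]).map (iterateFrobenius K 3 (i : ℕ)) = !![1, 0; t ^ 3 ^ (i : ℕ), 1] from by
    ext r s; fin_cases r <;> fin_cases s <;> simp [iterateFrobenius_def], mul_comm (b i).1, pow_mul]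
  generalize t ^ 3 ^ (i : ℕ) = u
  generalize b i = c
  generalize a i = n at c
  fin_cases n <;> fin_cases c <;> simp [symE, binom2, pow_two]

/-- The upper unipotent entries. -/
theorem tens_upper (a : Fin k → Fin 3) (s : K) (b b' : Mon a) :
    tens a !![1, s; 0, 1] b b' = if ∀ i, b i ≤ b' i then
      (∏ i, binom2 (b' i).1 (b i).1) * s ^ (∑ i, ((b' i).1 - (b i).1) * 3 ^ (i : ℕ)) else 0 := by
  rw [tens_apply]
  have h : ∀ (n : Fin 3) (S : K) (c c' : Fin (n.1 + 1)),
      symE !![1, S; 0, 1] n c c' =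
        if c ≤ c' then binom2 c'.1 c.1 * S ^ (c'.1 - c.1) else 0 := by
    intro n S c c'
    fin_cases n <;> fin_cases c <;> fin_cases c' <;> simp [symE, binom2, pow_two]
  simp only [show ∀ i : Fin k, (!![1, s; 0, 1]).map (iterateFrobenius K 3 (i : ℕ)) =
      !![1, s ^ 3 ^ (i : ℕ); 0, 1] from fun i => by
    ext r r'; fin_cases r <;> fin_cases r' <;> simp [iterateFrobenius_def], h]
  split_ifs with hle
  · rw [← Finset.prod_pow_eq_pow_sum, ← Finset.prod_mul_distrib]
    refine Finset.prod_congr rfl fun i _ => ?_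
    rw [if_pos (hle i), ← pow_mul, mul_comm (3 ^ (i : ℕ))]
  · push Not at hle
    obtain ⟨i, hi⟩ := hle
    exact Finset.prod_eq_zero (Finset.mem_univ i) (if_neg (not_le.2 hi))

end CfsgLib.EEightSub
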