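import Cfsg.Agent.EEightSub.Sem
import Cfsg.Agent.LangTorus.Main
import Cfsg.Agent.LangTorus.DataE8
import Cfsg.Agent.LangTorus.GoodE8
import Cfsg.Agent.SylowTori.Main
import Cfsg.Agent.ChevTorus.Order
import Cfsg.Agent.Weyl.Degrees
import Cfsg.Agent.ChevOddInvol.Main
import Cfsg.Agent.ChevOddInvol.CertE8
import Cfsg.Agent.ChevOddInvol.E8Mask
import Cfsg.Agent.ChevOddInvol.E8Fuse

/-!
# Elements of `E₈(3)` of order dividing `11²` or `73`, involutions, and their eigenvalues

The two twisted tori of orders `121²` and `73²` contain Sylow subgroups; the eigenvalues on the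
adjoint module are read off the root values.
-/

set_option autoImplicit false
set_option linter.style.haveILetI false

namespace CfsgLib.EEightSub

open Cfsg.Lie CfsgLib.Chevalley CfsgLib.ChevTorus CfsgLib.LangChev CfsgLib.LangTorus
open scoped MatrixGroups

local notation "D" => chevE8
/-- The group over the prime field. -/
abbrev G3 : Type := ↥(ChevalleyDatum.group chevE8 (ZMod 3))

/-- The algebraic closure of the prime field. -/
abbrev 𝕂 : Type := AlgebraicClosure (ZMod 3)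

theorem hdetE8 : (cartanMat D).det ≠ 0 := by
  intro h0
  have := SylowTori.natAbs_det_of_smith (A := cartanMat D) smithE8
  rw [h0, Int.natAbs_zero] at this
  exact absurd this (by decide +kernel)

theorem torC_inj : Function.Injective (torC D : (Fin chevE8.rank → 𝕂ˣ) → GL chevE8.Idx 𝕂) :=
  torC_injective goodWE8 certE8_good

/-- The group over the prime field inside the group over the closure. -/
noncomputable def phiK : G3 →* GL chevE8.Idx 𝕂 :=
  (Matrix.GeneralLinearGroup.map (n := chevE8.Idx) (algebraMap (ZMod 3) 𝕂)).comp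
    (chevE8.group (ZMod 3)).subtype

theorem phiK_injective : Function.Injective phiK := fun _ _ e =>
  Subtype.ext (Units.ext (Matrix.map_injective (f := algebraMap (ZMod 3) 𝕂)
    (algebraMap (ZMod 3) 𝕂).injective (congrArg Units.val e)))

/-- The adjoint representation over the closure. -/
noncomputable def adRep : G3 →* Module.End 𝕂 (chevE8.Idx → 𝕂) :=
  (Matrix.toLinAlgEquiv' (R := 𝕂) (n := chevE8.Idx)).toAlgHom.toMonoidHom.comp
    ((Units.coeHom _).comp phiK)

theorem frob_phiK (x : G3) : frobGL 𝕂 3 1 (phiK x) = phiK x := by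
  refine Units.ext (Matrix.ext fun i j => ?_)
  show algebraMap (ZMod 3) 𝕂 _ ^ 3 ^ 1 = _
  rw [← map_pow, pow_one, ZMod.pow_card]
  rfl

theorem torC_conj_iff (ω : List (Fin chevE8.rank)) (d : Fin chevE8.rank → 𝕂ˣ) :
    nWord goodWE8 𝕂 ω * frobGL 𝕂 3 1 (torC D d) * (nWord goodWE8 𝕂 ω)⁻¹ = torC D d ↔
      ∀ r : Root D, torVal d (Sum.inr ((ω.map (wPerm goodWE8)).prod r)) =
        torVal d (Sum.inr r) ^ 3 := by
  have htor : ∀ d' : Fin chevE8.rank → 𝕂ˣ, torC D d' = tor fun s => torVal d' (Sum.inr s) := by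
    intro d'
    rw [torC]
    congr 1
  rw [SylowTori.frobGL_torC (F := ZMod 3) 3 1 (ZMod.card 3) d, ZMod.card, htor,
    nR_mul_tor_list goodWE8, mul_inv_cancel_right, htor d, tor_injective.eq_iff, funext_iff]
  have hpow : ∀ s, torVal (d ^ 3) (Sum.inr s : chevE8.Idx) = torVal d (Sum.inr s) ^ 3 := fun s => by
    simp only [torVal, ← Finset.prod_pow, Pi.pow_apply]
    exact Finset.prod_congr rfl fun k _ => by
      rw [← zpow_natCast, ← zpow_natCast, ← zpow_mul, ← zpow_mul, mul_comm]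
  simp only [hpow]
  set π := (ω.map (wPerm goodWE8)).prod
  constructor
  · intro h1 r
    have := h1 (π r)
    rw [show π⁻¹ (π r) = r from π.symm_apply_apply r] at this
    exact this.symm
  · intro h1 s
    rw [← h1 (π⁻¹ s), show π (π⁻¹ s) = s from π.apply_symm_apply s]

theorem wordPerm_val : ∀ (ω : List (Fin chevE8.rank)) (r : Root D),
    ((ω.map (wPerm goodWE8)).prod r : ℕ) = Weyl.rwalk Weyl.reflTableE8 (ω.map Fin.val) r
  | [], r => rfl
  | i :: ω, r => by
    rw [List.map_cons, List.prod_cons, Equiv.Perm.mul_apply, List.map_cons, Weyl.rwalk,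
      ← wordPerm_val ω r, goodWE8.wPerm_val]
    exact (((Weyl.rootE8_good.root_facts (Fin.isLt _)).2.2.2.2.2.2 i i.2).1).symm

/-- A word as a list of node indices. -/
def wordFin (word : List ℕ) : List (Fin chevE8.rank) :=
  word.map fun i => ⟨i % 8, Nat.mod_lt _ (by norm_num : 0 < 8)⟩

theorem wordFin_val {word : List ℕ} (h : ∀ i ∈ word, i < 8) : (wordFin word).map Fin.val = word := by
  rw [wordFin, List.map_map]
  conv_rhs => rw [← List.map_id word]
  exact List.map_congr_left fun i hi => Nat.mod_eq_of_lt (h i hi)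

theorem prod_zpow_eq {ι G : Type*} [CommGroup G] (x : G) (s : Finset ι) (f : ι → ℤ) :
    ∏ i ∈ s, x ^ f i = x ^ ∑ i ∈ s, f i := by
  induction s using Finset.cons_induction with
  | empty => simp
  | cons a s ha ih => rw [Finset.prod_cons, Finset.sum_cons, zpow_add, ih]

theorem torVal_inl (c : Fin chevE8.rank → 𝕂ˣ) (i : Fin chevE8.rank) : torVal c (Sum.inl i) = 1 :=
  Finset.prod_eq_one fun k _ => by rw [wt_inl, zpow_zero]

/-- The torus element of a pair of exponents. -/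
noncomputable def cAB (ζ : 𝕂ˣ) (u v : List ℤ) (A B : ℕ) : Fin chevE8.rank → 𝕂ˣ :=
  fun k => ζ ^ ((A : ℤ) * u.getD (k : ℕ) 0 + (B : ℤ) * v.getD (k : ℕ) 0)

variable {ζ : 𝕂ˣ} {n : ℕ} {word : List ℕ} {u v : List ℤ} {U V : List ℕ}

theorem torVal_cAB (hζ : IsPrimitiveRoot ζ n) (hu : vecOk n word u U = true)
    (hv : vecOk n word v V = true) (A B : ℕ) (r : Root D) :
    torVal (cAB ζ u v A B) (Sum.inr r) = ζ ^ (A * U.getD (r : ℕ) 0 + B * V.getD (r : ℕ) 0) := by
  simp only [torVal, wt_inr, cAB, ← zpow_mul]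
  rw [prod_zpow_eq, ← zpow_natCast, ← mul_inv_eq_one, ← zpow_sub, hζ.zpow_eq_one_iff_dvd]
  refine Int.ModEq.dvd ?_
  have h1 := ((vec_spec hu).2.2 r r.2).1
  have h2 := ((vec_spec hv).2.2 r r.2).1
  push_cast
  refine ((h1.mul_left (A : ℤ)).add (h2.mul_left (B : ℤ))).trans ?_
  rw [Finset.mul_sum, Finset.mul_sum, ← Finset.sum_add_distrib]
  rw [Finset.sum_congr rfl fun (k : Fin 8) _ => show (A : ℤ) * (chevE8.cartan k r * u.getD k 0) + (B : ℤ) * (chevE8.cartan k r * v.getD k 0) = ((A : ℤ) * u.getD k 0 + (B : ℤ) * v.getD k 0) * chevE8.cartan k r by ring]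
  rfl

theorem cAB_fixed (hζ : IsPrimitiveRoot ζ n) (hu : vecOk n word u U = true)
    (hv : vecOk n word v V = true) (A B : ℕ) :
    nWord goodWE8 𝕂 (wordFin word) * frobGL 𝕂 3 1 (torC D (cAB ζ u v A B)) *
      (nWord goodWE8 𝕂 (wordFin word))⁻¹ = torC D (cAB ζ u v A B) := by
  rw [torC_conj_iff]
  intro r
  rw [torVal_cAB hζ hu hv, torVal_cAB hζ hu hv, ← pow_mul, wordPerm_val,
    wordFin_val (vec_spec hu).2.1, ← zpow_natCast, ← zpow_natCast, ← mul_inv_eq_one, ← zpow_sub,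
    hζ.zpow_eq_one_iff_dvd]
  refine (Int.natCast_modEq_iff.2 ?_).dvd
  rw [show (A * U.getD (r : ℕ) 0 + B * V.getD (r : ℕ) 0) * 3 =
    A * (3 * U.getD (r : ℕ) 0) + B * (3 * V.getD (r : ℕ) 0) by ring]
  exact ((((vec_spec hu).2.2 r r.2).2).mul_left A).add ((((vec_spec hv).2.2 r r.2).2).mul_left B)

/-- **Elements killed by `n` are conjugate into the twisted torus.** -/
theorem exists_conj_torus (hu : vecOk n word u U = true) (hv : vecOk n word v V = true)
    (h6 : u.getD 6 0 = 1 ∧ v.getD 6 0 = 0) (h7 : u.getD 7 0 = 0 ∧ v.getD 7 0 = 1)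
    (r μ : ℕ) [hr : Fact r.Prime] (hn : n = r ^ μ)
    (hfac : (Nat.card G3).factorization r = 2 * μ) (hζ : IsPrimitiveRoot ζ n) :
    ∃ g ∈ chevE8.group 𝕂, frobGL 𝕂 3 1 g = g * nWord goodWE8 𝕂 (wordFin word) ∧
      ∀ x : G3, x ^ n = 1 → ∃ (y : G3) (A B : ℕ),
        phiK (y * x * y⁻¹) = g * torC D (cAB ζ u v A B) * g⁻¹ := by
  classical
  have hn0 : 0 < n := hn ▸ pow_pos hr.out.pos μ
  haveI : NeZero n := ⟨hn0.ne'⟩
  set N := nWord goodWE8 𝕂 (wordFin word)
  obtain ⟨g, hg, hgn⟩ := lang goodWE8 Weyl.rootE8_good hdetE8 3 1 le_rfl (h₀ := N)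
    (monomial_le_group goodWE8 (nWord_mem goodWE8 𝕂 _))
  have hσg : frobGL 𝕂 3 1 g = g * N := by rw [← hgn, mul_inv_cancel_left]
  refine ⟨g, hg, hσg, ?_⟩
  let ψ : rootsOfUnity n 𝕂 × rootsOfUnity n 𝕂 →* GL chevE8.Idx 𝕂 :=
    (MulAut.conj g).toMonoidHom.comp ((torHom D 𝕂).comp
      { toFun := fun z k => (z.1 : 𝕂ˣ) ^ u.getD (k : ℕ) 0 * (z.2 : 𝕂ˣ) ^ v.getD (k : ℕ) 0
        map_one' := funext fun k => by simp
        map_mul' := fun z z' => funext fun k => by simp [mul_zpow, mul_mul_mul_comm] })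
  have hψinj : Function.Injective ψ := by
    intro z z' e
    have e' := torC_inj ((MulAut.conj g).injective e)
    have h6' := congrFun e' ⟨6, show 6 < 8 by norm_num⟩
    have h7' := congrFun e' ⟨7, show 7 < 8 by norm_num⟩
    simp only [MonoidHom.coe_mk, OneHom.coe_mk, h6.1, h6.2, h7.1, h7.2, zpow_one, zpow_zero,
      mul_one, one_mul] at h6' h7'
    exact Prod.ext (Subtype.ext h6') (Subtype.ext h7')
  have hAB : ∀ z, ∃ A B : ℕ, ψ z = g * torC D (cAB ζ u v A B) * g⁻¹ := by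
    intro z
    obtain ⟨i, hi⟩ := Subgroup.mem_zpowers_iff.1 (show (z.1 : 𝕂ˣ) ∈ Subgroup.zpowers ζ by
      rw [hζ.zpowers_eq]; exact z.1.2)
    obtain ⟨j, hj⟩ := Subgroup.mem_zpowers_iff.1 (show (z.2 : 𝕂ˣ) ∈ Subgroup.zpowers ζ by
      rw [hζ.zpowers_eq]; exact z.2.2)
    refine ⟨(i % (n : ℤ)).toNat, (j % (n : ℤ)).toNat, ?_⟩
    show g * torC D _ * g⁻¹ = _
    congr 3
    funext k
    simp only [MonoidHom.coe_mk, OneHom.coe_mk]
    have hz : ∀ m : ℤ, ζ ^ m = ζ ^ ((m % (n : ℤ)).toNat : ℤ) := fun m => by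
      rw [← mul_inv_eq_one, ← zpow_sub, hζ.zpow_eq_one_iff_dvd,
        Int.toNat_of_nonneg (Int.emod_nonneg _ (by exact_mod_cast hn0.ne'))]
      exact Int.dvd_self_sub_emod
    rw [cAB, zpow_add, zpow_mul, zpow_mul, ← hz, ← hz, hi, hj]
  have hrange : ψ.range ≤ phiK.range := by
    rintro _ ⟨z, rfl⟩
    obtain ⟨A, B, e⟩ := hAB z
    have hmem : g * torC D (cAB ζ u v A B) * g⁻¹ ∈ chevE8.group 𝕂 :=
      mul_mem (mul_mem hg (diag_le_group goodWE8 (torC_mem_diag goodWE8 _))) (inv_mem hg)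
    have hfix : frobGL 𝕂 3 1 (g * torC D (cAB ζ u v A B) * g⁻¹) =
        g * torC D (cAB ζ u v A B) * g⁻¹ := by
      rw [map_mul, map_mul, map_inv, hσg]
      conv_rhs => rw [← cAB_fixed hζ hu hv A B]
      simp only [N]
      group
    obtain ⟨y, hy, ey⟩ := exists_descend (F := ZMod 3) 3 1 goodWE8 Weyl.rootE8_good torC_inj
      (ZMod.card 3) hmem hfix
    exact ⟨⟨y, hy⟩, ey.trans e.symm⟩
  set P : Subgroup G3 := ψ.range.comap phiK
  have hP : Nat.card P = r ^ (Nat.card G3).factorization r := by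
    have e1 : Nat.card P = Nat.card ψ.range := by
      rw [Nat.card_congr (Subgroup.equivMapOfInjective P phiK phiK_injective).toEquiv,
        show P.map phiK = ψ.range from Subgroup.map_comap_eq_self hrange]
    rw [e1, ← Nat.card_congr (MonoidHom.ofInjective hψinj).toEquiv, Nat.card_prod,
      (IsPrimitiveRoot.coe_units_iff.2 hζ).card_rootsOfUnity, hfac, hn,
      two_mul, pow_add]
  let S : Sylow r G3 := Sylow.ofCard P hP
  intro x hx
  have hxp : IsPGroup r (Subgroup.zpowers x) := by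
    obtain ⟨m, -, hm⟩ := (Nat.dvd_prime_pow hr.out).1 (hn ▸ orderOf_dvd_of_pow_eq_one hx)
    exact IsPGroup.of_card (n := m) (by rw [Nat.card_zpowers, hm])
  obtain ⟨T, hT⟩ := hxp.exists_le_sylow
  obtain ⟨y, hy⟩ := MulAction.exists_smul_eq G3 T S
  have hmem : y * x * y⁻¹ ∈ (S : Subgroup G3) := by
    rw [← hy, Sylow.coe_subgroup_smul]
    exact ⟨x, hT (Subgroup.mem_zpowers x), rfl⟩
  obtain ⟨z, hz⟩ := (Subgroup.mem_comap.1 hmem : phiK (y * x * y⁻¹) ∈ ψ.range)
  obtain ⟨A, B, e⟩ := hAB z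
  exact ⟨y, A, B, hz.symm.trans e⟩

theorem roots_diag {ι : Type*} [Fintype ι] [DecidableEq ι] (d : ι → 𝕂) :
    (Matrix.diagonal d).charpoly.roots = Finset.univ.val.map d := by
  rw [Matrix.charpoly_diagonal, Finset.prod_eq_multiset_prod, Polynomial.roots_multiset_prod]
  · simp [Multiset.bind_map, Multiset.map_map, Function.comp_def, Polynomial.roots_X_sub_C]
  · intro h
    obtain ⟨b, -, hb⟩ := Multiset.mem_map.1 h
    exact Polynomial.X_sub_C_ne_zero _ hb

theorem eigSum_diag (x y : G3) (g : GL chevE8.Idx 𝕂) (d : chevE8.Idx → 𝕂) (T : GL chevE8.Idx 𝕂)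
    (hT : (T : Matrix chevE8.Idx chevE8.Idx 𝕂) = Matrix.diagonal d)
    (e : phiK (y * x * y⁻¹) = g * T * g⁻¹) (φ : 𝕂 → ℤ) :
    eigSum (adRep x) φ = ∑ a, φ (d a) := by
  have e' : phiK x = ((phiK y)⁻¹ * g) * T * ((phiK y)⁻¹ * g)⁻¹ := by
    rw [map_mul, map_mul, map_inv] at e
    calc phiK x = (phiK y)⁻¹ * (phiK y * phiK x * (phiK y)⁻¹) * phiK y := by group
      _ = _ := by rw [e]; group
  have hr : (adRep x).charpoly.roots = Finset.univ.val.map d := by
    show (Matrix.toLin' (phiK x : Matrix chevE8.Idx chevE8.Idx 𝕂)).charpoly.roots = _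
    rw [Matrix.charpoly_toLin', e', Units.val_mul, Units.val_mul, Matrix.coe_units_inv,
      Matrix.charpoly_units_conj, hT, roots_diag]
  rw [eigSum, hr, Multiset.map_map]
  rfl

theorem eigSum_cAB (hζ : IsPrimitiveRoot ζ n) (hu : vecOk n word u U = true)
    (hv : vecOk n word v V = true) (hn : 0 < n) (gf : ℕ → ℤ) {x y : G3} {g : GL chevE8.Idx 𝕂}
    {A B : ℕ} (e : phiK (y * x * y⁻¹) = g * torC D (cAB ζ u v A B) * g⁻¹) :
    eigSum (adRep x) (phiOf (ζ : 𝕂) n gf) =
      8 * gf 0 + ∑ r : Fin 240, gf ((A * U.getD (r : ℕ) 0 + B * V.getD (r : ℕ) 0) % n) := by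
  have hζ' : IsPrimitiveRoot (ζ : 𝕂) n := IsPrimitiveRoot.coe_units_iff.2 hζ
  rw [eigSum_diag x y g _ _ (coe_torC _) e, Fintype.sum_sum_type]
  refine congrArg₂ (· + ·) ?_ (Finset.sum_congr rfl fun r _ => ?_)
  · have h1 : phiOf (ζ : 𝕂) n gf 1 = gf 0 := by
      have := phiOf_pow hζ' hn gf 0
      rwa [pow_zero, Nat.zero_mod] at this
    simp only [torVal_inl, Units.val_one, h1, Finset.sum_const, Finset.card_univ, Fintype.card_fin,
      nsmul_eq_mul]
    rfl
  · rw [torVal_cAB hζ hu hv, Units.val_pow_eq_pow_val, phiOf_pow hζ' hn]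

/-- **The eigenvalues of an involution.** -/
theorem eigSum_involution {t : G3} (ht : orderOf t = 2) :
    ∃ fix : ℕ, (fix = 136 ∨ fix = 120) ∧ ∀ φ : 𝕂 → ℤ,
      eigSum (adRep t) φ = (fix : ℕ) * φ 1 + ((248 - fix : ℕ) : ℤ) * φ (-1) := by
  open ChevOddInvol in
  have hu : Unimodular chevE8 :=
    ⟨_, _, _, _, _, smithE8, (by decide : ∀ i : Fin 8, (![1, 1, 1, 1, 1, 1, 1, 1] : Fin 8 → ℕ) i = 1)⟩
  open ChevOddInvol in
  obtain ⟨s, hs, e⟩ := isConj_tElt (F := ZMod 3) hu goodWE8 Weyl.rootE8_good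
    (involGood_of_cert goodWE8 Weyl.rootE8_good involCertE8 involE8_ok)
    (by rw [ZMod.card]; decide) maskE8_ok fuseE8_ok potE8_ok ht
  have hs' : s < 2 ^ chevE8.rank := by
    simp only [List.mem_cons, List.not_mem_nil, or_false] at hs
    show s < 2 ^ 8
    omega
  obtain ⟨y, hy⟩ := isConj_iff.1 (e hs')
  refine ⟨8 + ((List.range 240).countP fun r => !ChevOddInvol.sgn chevE8 ChevOddInvol.masksE8 s r),
    ?_, ?_⟩
  · simp only [List.mem_cons, List.not_mem_nil, or_false] at hs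
    rcases hs with rfl | rfl <;> decide +kernel
  have hmat : ((phiK (y * t * y⁻¹) : GL chevE8.Idx 𝕂) : Matrix chevE8.Idx chevE8.Idx 𝕂) =
      Matrix.diagonal (Sum.elim (fun _ => 1) fun r : Root D =>
        if ChevOddInvol.sgn chevE8 ChevOddInvol.masksE8 s r then -1 else 1) := by
    rw [hy]
    show (Matrix.diagonal _).map (algebraMap (ZMod 3) 𝕂) = _
    rw [Matrix.diagonal_map (map_zero _)]
    congr 1
    funext a
    rcases a with i | r
    · simp
    · simp only [Function.comp_apply, Sum.elim_inr, ChevOddInvol.unitOf]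
      split <;> simp
  intro φ
  rw [eigSum_diag t y 1 _ (phiK (y * t * y⁻¹)) hmat (by group) φ, Fintype.sum_sum_type]
  simp only [Sum.elim_inl, Sum.elim_inr, Finset.sum_const, Finset.card_univ, Fintype.card_fin,
    nsmul_eq_mul]
  have hcount : ∀ (L : List ℕ) (p : ℕ → Bool),
      (L.map fun r => φ (if p r then -1 else 1)).sum =
        (L.countP fun r => !p r) * φ 1 + (L.countP p) * φ (-1) := by
    intro L p
    induction L with
    | nil => simp
    | cons a L ih => cases hp : p a <;> simp [hp, ih] <;> ring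
  have hsum := sum_range_eq 240
    (fun r => φ (if ChevOddInvol.sgn chevE8 ChevOddInvol.masksE8 s r then -1 else 1))
  rw [hcount] at hsum
  have hlen := List.length_eq_countP_add_countP
    (fun r => ChevOddInvol.sgn chevE8 ChevOddInvol.masksE8 s r) (l := List.range 240)
  rw [List.length_range] at hlen
  simp only [Bool.not_eq_true, decide_eq_true_eq] at hlen
  show ((8 : ℕ) : ℤ) * φ 1 + (∑ r : Fin 240, _) = _
  rw [← hsum]
  set a := (List.range 240).countP fun r => !ChevOddInvol.sgn chevE8 ChevOddInvol.masksE8 s r with ha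
  set b := (List.range 240).countP fun r => ChevOddInvol.sgn chevE8 ChevOddInvol.masksE8 s r
  have hb : 248 - (8 + a) = b := by
    have : (List.range 240).countP (fun r => decide (ChevOddInvol.sgn chevE8 ChevOddInvol.masksE8 s r = false)) = a :=
      List.countP_congr fun r _ => by simp
    omega
  rw [hb]
  push_cast
  ring

end CfsgLib.EEightSub
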